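import Cfsg.Agent.Lib.J1Unique.BadBSteps0

/-!
# Coset certificate check
-/

set_option autoImplicit false
set_option linter.all false
set_option maxRecDepth 100000

namespace Cfsg.Agent.J1Unique.BadB

open Cfsg.Agent.CosetCert (Tree)

theorem cells_0 : allRange (cellOK table) 0 5 = true := by decide +kernel

theorem base_ok : baseOK table = true := by decide +kernel

theorem checked : Checked table where
  base := base_ok
  steps i hi := by
    exact steps0 i (by omega) (hi : i < 2019)
  cells i hi := (allRange_spec _ _ cells_0) i (Nat.zero_le _) hi

end Cfsg.Agent.J1Unique.BadB
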