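import Cfsg.Agent.Lib.J1Unique.GoodData

/-!
# Coset certificate check, a part
-/

set_option autoImplicit false
set_option linter.all false
set_option maxRecDepth 100000

namespace Cfsg.Agent.J1Unique.Good

open Cfsg.Agent.CosetCert (Tree)

theorem steps1_0 : allRange (stepOK table.C) 9000 500 = true := by decide +kernel
theorem steps1_1 : allRange (stepOK table.C) 9500 500 = true := by decide +kernel
theorem steps1_2 : allRange (stepOK table.C) 10000 500 = true := by decide +kernel
theorem steps1_3 : allRange (stepOK table.C) 10500 500 = true := by decide +kernel
theorem steps1_4 : allRange (stepOK table.C) 11000 500 = true := by decide +kernel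
theorem steps1_5 : allRange (stepOK table.C) 11500 500 = true := by decide +kernel
theorem steps1_6 : allRange (stepOK table.C) 12000 500 = true := by decide +kernel
theorem steps1_7 : allRange (stepOK table.C) 12500 500 = true := by decide +kernel
theorem steps1_8 : allRange (stepOK table.C) 13000 500 = true := by decide +kernel
theorem steps1_9 : allRange (stepOK table.C) 13500 500 = true := by decide +kernel
theorem steps1_10 : allRange (stepOK table.C) 14000 500 = true := by decide +kernel
theorem steps1_11 : allRange (stepOK table.C) 14500 500 = true := by decide +kernel
theorem steps1_12 : allRange (stepOK table.C) 15000 500 = true := by decide +kernel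
theorem steps1_13 : allRange (stepOK table.C) 15500 500 = true := by decide +kernel
theorem steps1_14 : allRange (stepOK table.C) 16000 500 = true := by decide +kernel
theorem steps1_15 : allRange (stepOK table.C) 16500 500 = true := by decide +kernel
theorem steps1_16 : allRange (stepOK table.C) 17000 500 = true := by decide +kernel
theorem steps1_17 : allRange (stepOK table.C) 17500 500 = true := by decide +kernel

theorem steps1 : ∀ i, 9000 ≤ i → i < 18000 → stepOK table.C i = true :=
  fun i h h' => (allRange_append (allRange_append (allRange_append (allRange_append (allRange_append (allRange_append (allRange_append (allRange_append (allRange_append (allRange_append (allRange_append (allRange_append (allRange_append (allRange_append (allRange_append (allRange_append (allRange_append (allRange_spec _ _ steps1_0) steps1_1) steps1_2) steps1_3) steps1_4) steps1_5) steps1_6) steps1_7) steps1_8) steps1_9) steps1_10) steps1_11) steps1_12) steps1_13) steps1_14) steps1_15) steps1_16) steps1_17) i h h'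

end Cfsg.Agent.J1Unique.Good
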