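import Cfsg.Agent.Lib.J1Unique.GoodData

/-!
# Coset certificate check, a part
-/

set_option autoImplicit false
set_option linter.all false
set_option maxRecDepth 100000

namespace Cfsg.Agent.J1Unique.Good

open Cfsg.Agent.CosetCert (Tree)

theorem steps2_0 : allRange (stepOK table.C) 18000 500 = true := by decide +kernel
theorem steps2_1 : allRange (stepOK table.C) 18500 500 = true := by decide +kernel
theorem steps2_2 : allRange (stepOK table.C) 19000 500 = true := by decide +kernel
theorem steps2_3 : allRange (stepOK table.C) 19500 500 = true := by decide +kernel
theorem steps2_4 : allRange (stepOK table.C) 20000 500 = true := by decide +kernel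
theorem steps2_5 : allRange (stepOK table.C) 20500 500 = true := by decide +kernel
theorem steps2_6 : allRange (stepOK table.C) 21000 500 = true := by decide +kernel
theorem steps2_7 : allRange (stepOK table.C) 21500 500 = true := by decide +kernel
theorem steps2_8 : allRange (stepOK table.C) 22000 500 = true := by decide +kernel
theorem steps2_9 : allRange (stepOK table.C) 22500 500 = true := by decide +kernel
theorem steps2_10 : allRange (stepOK table.C) 23000 500 = true := by decide +kernel
theorem steps2_11 : allRange (stepOK table.C) 23500 500 = true := by decide +kernel
theorem steps2_12 : allRange (stepOK table.C) 24000 500 = true := by decide +kernel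
theorem steps2_13 : allRange (stepOK table.C) 24500 500 = true := by decide +kernel
theorem steps2_14 : allRange (stepOK table.C) 25000 500 = true := by decide +kernel
theorem steps2_15 : allRange (stepOK table.C) 25500 500 = true := by decide +kernel
theorem steps2_16 : allRange (stepOK table.C) 26000 500 = true := by decide +kernel
theorem steps2_17 : allRange (stepOK table.C) 26500 500 = true := by decide +kernel

theorem steps2 : ∀ i, 18000 ≤ i → i < 27000 → stepOK table.C i = true :=
  fun i h h' => (allRange_append (allRange_append (allRange_append (allRange_append (allRange_append (allRange_append (allRange_append (allRange_append (allRange_append (allRange_append (allRange_append (allRange_append (allRange_append (allRange_append (allRange_append (allRange_append (allRange_append (allRange_spec _ _ steps2_0) steps2_1) steps2_2) steps2_3) steps2_4) steps2_5) steps2_6) steps2_7) steps2_8) steps2_9) steps2_10) steps2_11) steps2_12) steps2_13) steps2_14) steps2_15) steps2_16) steps2_17) i h h'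

end Cfsg.Agent.J1Unique.Good
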