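import Cfsg.Agent.Lib.J1Unique.GoodData

/-!
# Coset certificate check, a part
-/

set_option autoImplicit false
set_option linter.all false
set_option maxRecDepth 100000

namespace Cfsg.Agent.J1Unique.Good

open Cfsg.Agent.CosetCert (Tree)

theorem steps3_0 : allRange (stepOK table.C) 27000 500 = true := by decide +kernel
theorem steps3_1 : allRange (stepOK table.C) 27500 500 = true := by decide +kernel
theorem steps3_2 : allRange (stepOK table.C) 28000 500 = true := by decide +kernel
theorem steps3_3 : allRange (stepOK table.C) 28500 500 = true := by decide +kernel
theorem steps3_4 : allRange (stepOK table.C) 29000 500 = true := by decide +kernel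
theorem steps3_5 : allRange (stepOK table.C) 29500 500 = true := by decide +kernel
theorem steps3_6 : allRange (stepOK table.C) 30000 500 = true := by decide +kernel
theorem steps3_7 : allRange (stepOK table.C) 30500 500 = true := by decide +kernel
theorem steps3_8 : allRange (stepOK table.C) 31000 500 = true := by decide +kernel
theorem steps3_9 : allRange (stepOK table.C) 31500 500 = true := by decide +kernel
theorem steps3_10 : allRange (stepOK table.C) 32000 500 = true := by decide +kernel
theorem steps3_11 : allRange (stepOK table.C) 32500 500 = true := by decide +kernel
theorem steps3_12 : allRange (stepOK table.C) 33000 500 = true := by decide +kernel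
theorem steps3_13 : allRange (stepOK table.C) 33500 172 = true := by decide +kernel

theorem steps3 : ∀ i, 27000 ≤ i → i < 33672 → stepOK table.C i = true :=
  fun i h h' => (allRange_append (allRange_append (allRange_append (allRange_append (allRange_append (allRange_append (allRange_append (allRange_append (allRange_append (allRange_append (allRange_append (allRange_append (allRange_append (allRange_spec _ _ steps3_0) steps3_1) steps3_2) steps3_3) steps3_4) steps3_5) steps3_6) steps3_7) steps3_8) steps3_9) steps3_10) steps3_11) steps3_12) steps3_13) i h h'

end Cfsg.Agent.J1Unique.Good
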