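import Cfsg.Agent.Lib.J1Unique.GoodSteps0
import Cfsg.Agent.Lib.J1Unique.GoodSteps1
import Cfsg.Agent.Lib.J1Unique.GoodSteps2
import Cfsg.Agent.Lib.J1Unique.GoodSteps3

/-!
# Coset certificate check
-/

set_option autoImplicit false
set_option linter.all false
set_option maxRecDepth 100000

namespace Cfsg.Agent.J1Unique.Good

open Cfsg.Agent.CosetCert (Tree)

theorem cells_0 : allRange (cellOK table) 0 1000 = true := by decide +kernel
theorem cells_1 : allRange (cellOK table) 1000 1000 = true := by decide +kernel
theorem cells_2 : allRange (cellOK table) 2000 1000 = true := by decide +kernel
theorem cells_3 : allRange (cellOK table) 3000 1000 = true := by decide +kernel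
theorem cells_4 : allRange (cellOK table) 4000 1000 = true := by decide +kernel
theorem cells_5 : allRange (cellOK table) 5000 1000 = true := by decide +kernel
theorem cells_6 : allRange (cellOK table) 6000 1000 = true := by decide +kernel
theorem cells_7 : allRange (cellOK table) 7000 315 = true := by decide +kernel

theorem base_ok : baseOK table = true := by decide +kernel

theorem checked : Checked table where
  base := base_ok
  steps i hi := by
    rcases lt_or_ge i 9000 with h | h
    · exact steps0 i (by omega) h
    rcases lt_or_ge i 18000 with h | h
    · exact steps1 i (by omega) h
    rcases lt_or_ge i 27000 with h | h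
    · exact steps2 i (by omega) h
    exact steps3 i (by omega) (hi : i < 33672)
  cells i hi := (allRange_append (allRange_append (allRange_append (allRange_append (allRange_append (allRange_append (allRange_append (allRange_spec _ _ cells_0) cells_1) cells_2) cells_3) cells_4) cells_5) cells_6) cells_7) i (Nat.zero_le _) hi

end Cfsg.Agent.J1Unique.Good
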