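import Cfsg.Agent.Lib.J1Unique.Rel
import Cfsg.Agent.Lib.J1Unique.GoodCheck
import Cfsg.Agent.Lib.J1Unique.BadACheck
import Cfsg.Agent.Lib.J1Unique.BadBCheck
import Cfsg.Agent.Lib.J1Unique.BadCCheck
import Cfsg.Agent.Lib.J1Unique.SmallCheck
import Cfsg.Agent.Lib.J1.Order

/-!
# Consequences of the enumerations

A group satisfying the good relations is a quotient of a group of order at most `175560` which maps onto the
first Janko group; in the other three cases the element of order seven lies in the span of the reflections.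
-/

set_option autoImplicit false
set_option linter.all false
set_option maxRecDepth 100000

namespace Cfsg.Agent.J1Unique

open Cfsg.Agent.Lib.J1.Packed Cfsg.Agent.Lib.J1.Spectrum
open Cfsg.Agent.Lib.J1.Data (genX genY)

universe u

section

variable {G : Type u} [Group G] {a : ℕ → G}

/-- The span of the three reflections. -/
def refl (a : ℕ → G) : Subgroup G := Subgroup.closure (a '' {y | y < 3})

/-- The span of all letters. -/
def span (a : ℕ → G) : Subgroup G := Subgroup.closure (a '' {y | y < 5})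

theorem closure_inv_image (a : ℕ → G) (s : Set ℕ) :
    Subgroup.closure ((fun y => (a y)⁻¹) '' s) = Subgroup.closure (a '' s) := by
  rw [← Subgroup.closure_inv (a '' s)]
  congr 1
  ext z
  simp [Set.mem_inv, inv_eq_iff_eq_inv]

/-- A checked table bounds the orbit of the base point under the span of the letters. -/
theorem orbit_cover {Q : Type*} [MulAction G Q] {D : PTable} (hD : Checked D) (hp : Paired a)
    {B : List (List ℕ)} (hB : ∀ b ∈ B, wval a b = 1) (hcov : coversAll B D.C.W = true)
    (hinv : ∀ y, y < D.C.K → ivOf D.C.IV y = cond (Nat.beq y 3) 4 (cond (Nat.beq y 4) 3 y))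
    {q₀ : Q} (hsub : ∀ w ∈ D.C.S, ∀ y ∈ w, a y • q₀ = q₀) :
    ∃ p : ℕ → Q, ∀ k ∈ Subgroup.closure (a '' {y | y < D.C.K}), ∃ c < D.n, k • q₀ = p c := by
  have hW := rels_of_covers hp hB hcov
  obtain ⟨p, hc⟩ := cover (g := fun y => (a y)⁻¹) (q₀ := q₀) hD
    (fun y hy => by rw [hinv y hy, hp.inv, inv_inv, mul_inv_cancel])
    (fun w hw q => by rw [act_inv, hW w hw, inv_one, one_smul])
    (fun w hw => by
      rw [act_inv, ← MulAction.mem_stabilizer_iff]
      exact inv_mem (wval_mem a fun y hy => MulAction.mem_stabilizer_iff.2 (hsub w hw y hy)))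
  exact ⟨p, fun k hk => hc k (by rwa [closure_inv_image])⟩

theorem small_words : coversAll (rels optGood) Small.table.C.W = true ∧
    (List.range 3).all (fun y => Nat.beq (ivOf Small.table.C.IV y) y) = true := by decide +kernel

/-- The reflections span a group of order at most `120`. -/
theorem refl_small (hp : Paired a) {o : Opt} (hB : ∀ b ∈ rels o, wval a b = 1) :
    ∃ p : Fin 120 → G, ∀ k ∈ refl a, ∃ c, p c = k := by
  have hcov : coversAll (rels o) Small.table.C.W = true := by
    rcases o with ⟨i1, i2, i3, x, z⟩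
    have : ∀ w ∈ Small.table.C.W, w ∈ [[], [0, 0], [1, 1], [2, 2], [0, 2, 0, 2], [1, 2, 1, 2, 1, 2],
        [0, 1, 0, 1, 0, 1, 0, 1, 0, 1]] := by decide +kernel
    simp only [coversAll, List.all_eq_true]
    intro w hw
    simp only [coveredBy, List.any_eq_true]
    refine ⟨w, ?_, 0, by simp, by simp⟩
    have hw' := this w hw
    simp only [rels, List.mem_cons, List.not_mem_nil, or_false] at hw' ⊢
    tauto
  obtain ⟨p, hc⟩ := orbit_cover (Q := G) (q₀ := 1) Small.checked hp hB hcov
    (fun y hy => by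
      have : y < 3 := hy
      interval_cases y <;> decide +kernel)
    (fun w hw => absurd hw (by simp [Small.table, Small.subs]))
  refine ⟨fun c => p c, fun k hk => ?_⟩
  obtain ⟨c, hc', e⟩ := hc k hk
  exact ⟨⟨c, hc'⟩, by rw [smul_eq_mul, mul_one] at e; exact e.symm⟩

/-- The cosets of the reflections in the span of all letters. -/
theorem span_cosets {D : PTable} (hD : Checked D) (hK : D.C.K = 5)
    (hinv : ∀ y, y < 5 → ivOf D.C.IV y = cond (Nat.beq y 3) 4 (cond (Nat.beq y 4) 3 y))
    (hS : D.C.S.all (fun w => w.all fun y => Nat.blt y 3) = true)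
    (hp : Paired a) {B : List (List ℕ)} (hB : ∀ b ∈ B, wval a b = 1)
    (hcov : coversAll B D.C.W = true) :
    ∃ p : ℕ → G ⧸ refl a, ∀ k ∈ span a, ∃ c < D.n, (QuotientGroup.mk k : G ⧸ refl a) = p c := by
  obtain ⟨p, hc⟩ := orbit_cover (Q := G ⧸ refl a) (q₀ := QuotientGroup.mk 1) hD hp hB hcov
    (fun y hy => hinv y (hK ▸ hy))
    (fun w hw y hy => by
      simp only [List.all_eq_true] at hS
      rw [MulAction.Quotient.smul_mk, smul_eq_mul, mul_one, QuotientGroup.eq, mul_one]
      exact inv_mem (Subgroup.subset_closure ⟨y, Nat.le_of_ble_eq_true (hS w hw y hy), rfl⟩))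
  refine ⟨p, fun k hk => ?_⟩
  obtain ⟨c, hc', e⟩ := hc k (by rw [hK]; exact hk)
  exact ⟨c, hc', by rw [MulAction.Quotient.smul_mk, smul_eq_mul, mul_one] at e; exact e⟩

/-- A collapsing option. -/
theorem collapse {D : PTable} (hD : Checked D) (hK : D.C.K = 5) (hn : D.n = 1)
    (hinv : ∀ y, y < 5 → ivOf D.C.IV y = cond (Nat.beq y 3) 4 (cond (Nat.beq y 4) 3 y))
    (hS : D.C.S.all (fun w => w.all fun y => Nat.blt y 3) = true)
    (hp : Paired a) {B : List (List ℕ)} (hB : ∀ b ∈ B, wval a b = 1)
    (hcov : coversAll B D.C.W = true) : a 3 ∈ refl a := by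
  obtain ⟨p, hc⟩ := span_cosets hD hK hinv hS hp hB hcov
  obtain ⟨c, hc1, e1⟩ := hc (a 3) (Subgroup.subset_closure ⟨3, by norm_num, rfl⟩)
  obtain ⟨c', hc2, e2⟩ := hc 1 (one_mem _)
  rw [hn] at hc1 hc2
  obtain rfl : c = c' := by omega
  have := QuotientGroup.eq.1 (e2.trans e1.symm)
  simpa using this

theorem iv_facts : ∀ y, y < 5 →
    ivOf 5456400 y = cond (Nat.beq y 3) 4 (cond (Nat.beq y 4) 3 y) := by decide +kernel

theorem bad_mem (hp : Paired a) {o : Opt} (ho : o = optA ∨ o = optB ∨ o = optC)
    (hB : ∀ b ∈ rels o, wval a b = 1) : a 3 ∈ refl a := by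
  rcases ho with rfl | rfl | rfl
  · exact collapse BadA.checked rfl rfl iv_facts (by decide +kernel) hp hB (by decide +kernel)
  · exact collapse BadB.checked rfl rfl iv_facts (by decide +kernel) hp hB (by decide +kernel)
  · exact collapse BadC.checked rfl rfl iv_facts (by decide +kernel) hp hB (by decide +kernel)

/-- The good option spans a group of order at most `175560`. -/
theorem span_card_le (hp : Paired a) (hB : ∀ b ∈ rels optGood, wval a b = 1) :
    Nat.card (span a) ≤ 175560 := by
  classical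
  obtain ⟨p₁, h₁⟩ := refl_small hp hB
  obtain ⟨p₂, h₂⟩ := span_cosets Good.checked rfl iv_facts (by decide +kernel) hp hB (by decide +kernel)
  have h : ∀ k : span a, ∃ ci : Fin 1463 × Fin 120,
      (k : G) = (p₂ ci.1).out * p₁ ci.2 := by
    rintro ⟨k, hk⟩
    obtain ⟨c, hc, e⟩ := h₂ k hk
    have hm : (p₂ c).out⁻¹ * k ∈ refl a := QuotientGroup.eq.1 (by rw [QuotientGroup.out_eq', e])
    obtain ⟨i, hi⟩ := h₁ _ hm
    exact ⟨(⟨c, hc⟩, i), by rw [hi, mul_inv_cancel_left]⟩
  choose F hF using h
  have := Nat.card_le_card_of_injective F fun k k' hkk => by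
    apply Subtype.ext
    rw [hF k, hF k', hkk]
  simpa using this

end

/-- The matrices of the five letters. -/
def letterWord : ℕ → List Bool
  | 0 => [true, false, true, true, true, true, false]
  | 1 => [false, false, false, true, false, true, false, true, false, true, false, true, false, false,
      false, false, false]
  | 2 => [false, false, false, true, false, false, false, true, true, true, true]
  | 3 => [false, false, false, true, false, true, true, true, true]
  | 4 => [false, false, true, false, false, false, false, true, true, true, true]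
  | _ => []

/-- The matrix of a letter. -/
def letterP (y : ℕ) : P7 := wordP (letterWord y)

/-- The matrix of a word. -/
def evalP : List ℕ → P7
  | [] => one
  | y :: w => mul (letterP y) (evalP w)

theorem wf_evalP : ∀ w, Wf (evalP w)
  | [] => wf_one
  | _ :: _ => wf_mul _ _

theorem matrix_facts : (rels optGood).all (fun w => eqb (evalP w) one) = true ∧
    eqb (evalP [0, 4, 4, 4]) genX = true ∧ eqb (evalP [1, 4, 1, 3, 1, 4, 4, 0, 1, 3]) genY = true ∧
    eqb (letterP 0) one = false := by decide +kernel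

/-- The matrix of an element of the Janko group. -/
abbrev valM (g : Cfsg.Spor.J1) : Matrix (Fin 7) (Fin 7) (ZMod 11) := g.1.1

theorem valM_inj {g h : Cfsg.Spor.J1} (e : valM g = valM h) : g = h := Subtype.ext (Units.ext e)

theorem valM_one : valM 1 = 1 := rfl

theorem exists_letters : ∃ j : ℕ → Cfsg.Spor.J1, ∀ y, valM (j y) = toMat (letterP y) := by
  have h : ∀ y, ∃ g : Cfsg.Spor.J1, valM g = toMat (letterP y) := fun y => by
    obtain ⟨g, hg, he⟩ := exists_word (letterWord y)
    exact ⟨⟨g, hg⟩, he⟩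
  exact ⟨fun y => (h y).choose, fun y => (h y).choose_spec⟩

theorem val_wval {j : ℕ → Cfsg.Spor.J1} (hj : ∀ y, valM (j y) = toMat (letterP y)) :
    ∀ w : List ℕ, valM (wval j w) = toMat (evalP w)
  | [] => by rw [wval, evalP, toMat_one, valM_one]
  | y :: w => by
    rw [wval, evalP, letterP, toMat_mul (wf_wordP _) (wf_evalP w), ← letterP]
    show valM (j y) * valM (wval j w) = _
    rw [hj, val_wval hj w]

theorem letters_spec : ∃ j : ℕ → Cfsg.Spor.J1, Paired j ∧ (∀ b ∈ rels optGood, wval j b = 1) ∧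
    span j = ⊤ := by
  obtain ⟨j, hj⟩ := exists_letters
  obtain ⟨hrel, hx, hy, h0⟩ := matrix_facts
  simp only [List.all_eq_true] at hrel
  have hr : ∀ b ∈ rels optGood, wval j b = 1 := fun b hb => valM_inj (by
    rw [val_wval hj, eq_of_eqb (hrel b hb), toMat_one, valM_one])
  have two : ∀ y z, [y, z] ∈ rels optGood → j y * j z = 1 := fun y z h => by
    have := hr _ h
    rwa [wval, wval, wval, mul_one] at this
  have hp : Paired j :=
    { i0 := two 0 0 (by decide +kernel)
      i1 := two 1 1 (by decide +kernel)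
      i2 := two 2 2 (by decide +kernel)
      i34 := two 3 4 (by decide +kernel)
      iout := fun y hy => valM_inj (by
        obtain ⟨n, rfl⟩ : ∃ n, y = n + 5 := ⟨y - 5, by omega⟩
        rw [hj, valM_one]
        exact toMat_one) }
  refine ⟨j, hp, hr, ?_⟩
  have hm : ∀ w : List ℕ, w.all (fun y => Nat.blt y 5) = true → wval j w ∈ span j := fun w hw =>
    wval_mem j fun y hy' => Subgroup.subset_closure
      ⟨y, Nat.le_of_ble_eq_true (List.all_eq_true.1 hw y hy'), rfl⟩
  have key : ∀ x ∈ Cfsg.Spor.J1, x ∈ (span j).map Cfsg.Spor.J1.subtype := by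
    intro x hx'
    refine (Subgroup.closure_le _).2 ?_ hx'
    rintro z (rfl | rfl)
    · refine ⟨_, hm [0, 4, 4, 4] (by decide +kernel), Units.ext ?_⟩
      show valM (wval j [0, 4, 4, 4]) = _
      rw [val_wval hj, eq_of_eqb hx, toMat_genX]; rfl
    · refine ⟨_, hm [1, 4, 1, 3, 1, 4, 4, 0, 1, 3] (by decide +kernel), Units.ext ?_⟩
      show valM (wval j [1, 4, 1, 3, 1, 4, 4, 0, 1, 3]) = _
      rw [val_wval hj, eq_of_eqb hy, toMat_genY]; rfl
  rw [eq_top_iff]
  rintro g -
  obtain ⟨z, hz, e⟩ := key _ g.2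
  rwa [← show z = g from Subtype.ext e]

/-- A group of order `175560` satisfying the good relations is the first Janko group. -/
theorem iso_of_good {G : Type u} [Group G] [Finite G] (hcard : Nat.card G = 175560) {a : ℕ → G}
    (hp : Paired a) (hB : ∀ b ∈ rels optGood, wval a b = 1) (hne : a 0 ≠ 1) :
    Cfsg.Spor.IsoJ1 G := by
  classical
  obtain ⟨j, hpj, hrj, hgen⟩ := letters_spec
  haveI : Finite Cfsg.Spor.J1 := Nat.finite_of_card_ne_zero (by rw [Cfsg.Agent.Lib.J1.Order.natCard_J1]; norm_num)
  let b : ℕ → G × Cfsg.Spor.J1 := fun y => (a y, j y)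
  have hb : Paired b :=
    { i0 := Prod.ext hp.i0 hpj.i0
      i1 := Prod.ext hp.i1 hpj.i1
      i2 := Prod.ext hp.i2 hpj.i2
      i34 := Prod.ext hp.i34 hpj.i34
      iout := fun y hy => Prod.ext (hp.iout y hy) (hpj.iout y hy) }
  have hbr : ∀ w ∈ rels optGood, wval b w = 1 := fun w hw => by
    apply Prod.ext
    · rw [show (wval b w).1 = MonoidHom.fst G Cfsg.Spor.J1 (wval b w) from rfl, map_wval]; exact hB w hw
    · rw [show (wval b w).2 = MonoidHom.snd G Cfsg.Spor.J1 (wval b w) from rfl, map_wval]; exact hrj w hw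
  have hle := span_card_le hb hbr
  let f : span b →* Cfsg.Spor.J1 := (MonoidHom.snd G Cfsg.Spor.J1).comp (span b).subtype
  have hf : Function.Surjective f := by
    rw [← MonoidHom.range_eq_top, eq_top_iff, ← hgen]
    unfold span
    rw [Subgroup.closure_le]
    rintro z ⟨y, hy, rfl⟩
    exact ⟨⟨b y, Subgroup.subset_closure ⟨y, hy, rfl⟩⟩, rfl⟩
  have hbij : Function.Bijective f := by
    haveI := Fintype.ofFinite (span b)
    haveI := Fintype.ofFinite Cfsg.Spor.J1
    refine (Fintype.bijective_iff_surjective_and_card f).2 ⟨hf, le_antisymm ?_ ?_⟩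
    · rwa [← Nat.card_eq_fintype_card, ← Nat.card_eq_fintype_card, Cfsg.Agent.Lib.J1.Order.natCard_J1]
    · exact Fintype.card_le_of_surjective f hf
  let E := MulEquiv.ofBijective f hbij
  let φ : Cfsg.Spor.J1 →* G := ((MonoidHom.fst G Cfsg.Spor.J1).comp (span b).subtype).comp E.symm.toMonoidHom
  have hinj : Function.Injective φ := by
    rw [← MonoidHom.ker_eq_bot_iff]
    haveI := Cfsg.Agent.Lib.J1.Order.isSimpleGroup_J1
    refine (inferInstance : φ.ker.Normal).eq_bot_or_eq_top.resolve_right fun htop => hne ?_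
    have hz : (⟨b 0, Subgroup.subset_closure ⟨0, by norm_num, rfl⟩⟩ : span b) =
        E.symm (j 0) := (E.symm_apply_eq.2 rfl).symm
    have h1 : φ (j 0) = 1 := by
      rw [← MonoidHom.mem_ker, htop]; exact Subgroup.mem_top _
    have h2 : φ (j 0) = a 0 := by
      show ((E.symm (j 0) : span b) : G × Cfsg.Spor.J1).1 = a 0
      rw [← hz]
    rw [← h2, h1]
  haveI := Fintype.ofFinite G
  haveI := Fintype.ofFinite Cfsg.Spor.J1
  have hφ : Function.Bijective φ := (Fintype.bijective_iff_injective_and_card φ).2 ⟨hinj, by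
    rw [← Nat.card_eq_fintype_card, ← Nat.card_eq_fintype_card, hcard, Cfsg.Agent.Lib.J1.Order.natCard_J1]⟩
  exact ⟨(MulEquiv.ofBijective φ hφ).symm⟩

end Cfsg.Agent.J1Unique
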