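import Cfsg.Agent.Lib.J1Unique.Frame
import Cfsg.Agent.Lib.J1Unique.Enum

/-!
# A simple group with involution centralizer `C₂ × A₅` is the first Janko group
-/

set_option autoImplicit false
set_option linter.all false
set_option maxRecDepth 100000
set_option maxHeartbeats 1000000
set_option synthInstance.maxHeartbeats 200000

namespace Cfsg.Agent.J1Unique

open Cfsg.Agent.J1Order

universe u

theorem K_x : (wval cK xW ^ 3 = 1 ∧ wval cK xW ≠ 1) ∧
    (∀ b : Multiplicative (ZMod 2), (b, a1) * wval cK xW * (b, a1)⁻¹ = (wval cK xW)⁻¹) ∧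
    (Finset.univ.filter fun k : Alt.K => k * wval cK xW = wval cK xW * k).card = 6 ∧
    (∀ k : Alt.K, k * wval cK xW = wval cK xW * k → k ^ 5 = 1 → k = 1) ∧
    Alt.τ * (Multiplicative.ofAdd (0 : ZMod 2), a1) = (Multiplicative.ofAdd (1 : ZMod 2), a1) := by
  decide +kernel

theorem two_cases : ∀ b : Multiplicative (ZMod 2),
    b = Multiplicative.ofAdd 0 ∧ imT b = 3 ∨ b = Multiplicative.ofAdd 1 ∧ imT b = 2 := by decide +kernel

theorem opt_val :
    OptVal optGood (toK 3) (wval cK optGood.i0) (wval cK optGood.i2) (wval cK xW) (wval cK optGood.z) ∧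
    OptVal optA (toK 3) (wval cK optGood.i0) (wval cK optGood.i2) (wval cK xW) (wval cK optA.z) ∧
    OptVal optB (toK 2) (wval cK optB.i0) (wval cK optB.i2) (wval cK xW) (wval cK optB.z) ∧
    OptVal optC (toK 2) (wval cK optB.i0) (wval cK optB.i2) (wval cK xW) (wval cK optC.z) := by
  refine ⟨⟨?_, ?_, ?_, ?_, ?_, ?_⟩, ⟨?_, ?_, ?_, ?_, ?_, ?_⟩, ⟨?_, ?_, ?_, ?_, ?_, ?_⟩,
    ⟨?_, ?_, ?_, ?_, ?_, ?_⟩⟩ <;> decide +kernel

/-- Whether every admissible element of order five has a power among `u, v`. -/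
def zOK (p u v : Alt.K) : Bool :=
  decide (∀ z : Alt.K, (decide (z ^ 5 = 1) && !decide (z = 1) && decide (p * z * p⁻¹ = z⁻¹)) = true →
    (List.range 5).any (fun j => decide (z ^ j = u) || decide (z ^ j = v)) = true)

def preOK (A : ℕ) (u v : Alt.K) : Bool :=
  (List.range 8).all fun B => (List.range 8).all fun C => !compat A B C 2 || zOK (toK (itl A B C 6 1)) u v

theorem pre_checks : preOK 3 (wval cK optGood.z) (wval cK optA.z) = true ∧
    preOK 2 (wval cK optB.z) (wval cK optC.z) = true := by decide +kernel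

theorem pre_use {A B C : ℕ} {u v z : Alt.K} (h : preOK A u v = true) (hB : B < 8) (hC : C < 8)
    (hc : compat A B C 2 = true) (h5 : z ^ 5 = 1) (h1 : z ≠ 1)
    (hi : toK (itl A B C 6 1) * z * (toK (itl A B C 6 1))⁻¹ = z⁻¹) : ∃ j, z ^ j = u ∨ z ^ j = v := by
  simp only [preOK, List.all_eq_true, List.mem_range] at h
  have h' := h B hB C hC
  rw [hc, Bool.not_true, Bool.false_or] at h'
  have h'' := of_decide_eq_true h' z (by simp [h5, h1, hi])
  simp only [List.any_eq_true, Bool.or_eq_true, decide_eq_true_eq] at h''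
  obtain ⟨j, -, hj⟩ := h''
  exact ⟨j, hj⟩

theorem inv_facts : ∀ b : Multiplicative (ZMod 2),
    ((b, a1) : Alt.K) * (b, a1) = 1 ∧ ((b, a1) : Alt.K) ≠ 1 ∧ ((b, a1) : Alt.K) ≠ Alt.τ := by decide +kernel

section

variable {G : Type u} [Group G] [Finite G] [IsSimpleGroup G]

/-- An element of order five centralizing the chosen element of order three and one of its inverters. -/
theorem exists_five (H : Setup G) : ∃ (y : G) (b : Multiplicative (ZMod 2)), y ^ 5 = 1 ∧ y ≠ 1 ∧
    H.emb (wval cK xW) * y = y * H.emb (wval cK xW) ∧ H.t * y * H.t⁻¹ = y⁻¹ ∧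
    H.emb (b, a1) * y = y * H.emb (b, a1) := by
  classical
  haveI := Fact.mk Nat.prime_two
  haveI := Fact.mk Nat.prime_three
  obtain ⟨⟨x3, x1⟩, xv, x6, x5, hτ⟩ := K_x
  set x := H.emb (wval cK xW) with hx
  set v₀ := H.emb (Multiplicative.ofAdd (0 : ZMod 2), a1) with hv₀
  have hG := H.card_eq
  have invol : ∀ k : Alt.K, k * k = 1 → H.emb k * H.emb k = 1 := fun k hk => by rw [← map_mul, hk, map_one]
  have hvx : ∀ b, H.emb (b, a1) * x * (H.emb (b, a1))⁻¹ = x⁻¹ := fun b => by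
    rw [hx, ← map_inv, ← map_inv, ← map_mul, ← map_mul, xv]
  have htx : H.t * x * H.t⁻¹ = x := by
    rw [hx, ← H.commute_emb, mul_inv_cancel_right]
  have htv : H.t * v₀ = v₀ * H.t := (H.commute_emb _).symm
  set X : Subgroup G := Subgroup.centralizer ({x} : Set G) with hX
  have memX : ∀ g, g ∈ X ↔ g * x = x * g := fun g => Subgroup.mem_centralizer_singleton_iff
  have hxo : orderOf x = 3 := orderOf_eq_prime (by rw [hx, ← map_pow, x3, map_one])
    (fun h => x1 (H.emb_injective (h.trans (map_one _).symm)))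
  have hto : orderOf H.t = 2 := H.ht.1
  have h3 : 3 ∣ Nat.card X := by
    have : orderOf (⟨x, (memX x).2 rfl⟩ : X) = 3 := (Subgroup.orderOf_mk _ _).trans hxo
    exact this ▸ orderOf_dvd_natCard _
  have htX : H.t ∈ X := (memX _).2 (mul_inv_eq_iff_eq_mul.1 htx)
  have h2 : 2 ∣ Nat.card X := by
    have : orderOf (⟨H.t, htX⟩ : X) = 2 := (Subgroup.orderOf_mk _ _).trans hto
    exact this ▸ orderOf_dvd_natCard _
  have h4 : ¬ 4 ∣ Nat.card X := by
    intro h4
    obtain ⟨T, hT, hTle⟩ := Sylow.exists_subgroup_card_pow_succ (G := X) (p := 2) (n := 1)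
      (by simpa using h4) (H := Subgroup.zpowers (⟨H.t, htX⟩ : X))
      (by rw [Nat.card_zpowers, Subgroup.orderOf_mk, hto, pow_one])
    have hcomm := IsPGroup.commutative_of_card_eq_prime_sq (G := T) (p := 2) (by rw [hT])
    have hK : Nat.card {k : Alt.K // k * wval cK xW = wval cK xW * k} = 6 := by
      rw [Nat.card_eq_fintype_card, Fintype.card_subtype]; exact x6
    -- four divides six
    have hd : Nat.card T ∣ Nat.card ((Subgroup.centralizer ({H.t, x} : Set G))) := by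
      let ψ : T →* Subgroup.centralizer ({H.t, x} : Set G) :=
        { toFun := fun g => ⟨((g : X) : G), Subgroup.mem_centralizer_iff.2 (by
            rintro z (rfl | rfl)
            · exact (congrArg (fun z : T => ((z : X) : G))
                (hcomm g ⟨⟨H.t, htX⟩, hTle (Subgroup.mem_zpowers _)⟩) :).symm
            · exact ((memX _).1 (g : X).2).symm)⟩
          map_one' := rfl
          map_mul' := fun _ _ => rfl }
      exact Subgroup.card_dvd_of_injective ψ fun a b h => Subtype.ext (Subtype.ext (congrArg Subtype.val h :))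
    have hle : Nat.card (Subgroup.centralizer ({H.t, x} : Set G)) = 6 := by
      rw [← hK]
      refine Nat.card_congr
        { toFun := fun g => ⟨H.e ⟨g, Subgroup.mem_centralizer_singleton_iff.2
            ((Subgroup.mem_centralizer_iff.1 g.2 H.t (by simp)).symm)⟩, H.emb_injective (by
              rw [map_mul, map_mul, H.emb_e]
              exact (Subgroup.mem_centralizer_iff.1 g.2 x (by simp)).symm)⟩
          invFun := fun k => ⟨H.emb k.1, Subgroup.mem_centralizer_iff.2 (by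
            rintro z (rfl | rfl)
            · exact (H.commute_emb _).symm
            · rw [hx, ← map_mul, ← map_mul, k.2])⟩
          left_inv := fun g => Subtype.ext (H.emb_e _)
          right_inv := fun k => Subtype.ext (H.emb_injective (H.emb_e _)) }
    rw [hle, hT] at hd
    norm_num at hd
  have hcard : Nat.card X ∣ 175560 := hG ▸ Subgroup.card_subgroup_dvd_card X
  have stable : ∀ p, p.Prime → p ≠ 2 → ¬ p * p ∣ 175560 → p ∣ Nat.card X →
      ∃ y, orderOf y = p ∧ x * y = y * x ∧ (H.t * y * H.t⁻¹ = y ∨ H.t * y * H.t⁻¹ = y⁻¹) ∧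
        (v₀ * y * v₀⁻¹ = y ∨ v₀ * y * v₀⁻¹ = y⁻¹) := fun p hp hp2 hsq hd => by
    haveI := Fact.mk hp
    exact exists_stable H.t_sq (invol _ (inv_facts _).1) htv H.t_ne htx (hvx _) h4 hd hp2
      (by rw [hG]; exact hsq)
  -- an involution of the frame centralizing an element forces its order to divide `120`
  have small : ∀ (k : Alt.K), k * k = 1 → k ≠ 1 → ∀ y : G, H.emb k * y = y * H.emb k →
      orderOf y ∣ 120 := by
    intro k hk hk1 y hy
    obtain ⟨g, hg⟩ := isConj_iff.1 (H.isConj_invol k hk hk1)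
    have hmem : g⁻¹ * y * g ∈ H.C := Subgroup.mem_centralizer_singleton_iff.2 (by
      have e : H.t = g⁻¹ * H.emb k * g := by rw [← hg]; group
      rw [e]
      calc g⁻¹ * y * g * (g⁻¹ * H.emb k * g) = g⁻¹ * (y * H.emb k) * g := by group
        _ = g⁻¹ * (H.emb k * y) * g := by rw [hy]
        _ = _ := by group)
    have h1 : orderOf (⟨_, hmem⟩ : H.C) ∣ 120 := H.card_C ▸ orderOf_dvd_natCard _
    rw [Subgroup.orderOf_mk] at h1
    rwa [show g⁻¹ * y * g = MulAut.conj g⁻¹ y by simp, MulEquiv.orderOf_eq] at h1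
  have split : ∀ {y : G}, (H.t * y * H.t⁻¹ = y ∨ H.t * y * H.t⁻¹ = y⁻¹) →
      (v₀ * y * v₀⁻¹ = y ∨ v₀ * y * v₀⁻¹ = y⁻¹) →
      H.t * y = y * H.t ∨ (H.t * y * H.t⁻¹ = y⁻¹ ∧ ∃ b, H.emb (b, a1) * y = y * H.emb (b, a1)) := by
    intro y h1 h2
    rcases h1 with h1 | h1
    · exact Or.inl (mul_inv_eq_iff_eq_mul.1 h1)
    refine Or.inr ⟨h1, ?_⟩
    rcases h2 with h2 | h2
    · exact ⟨_, mul_inv_eq_iff_eq_mul.1 h2⟩
    · refine ⟨Multiplicative.ofAdd 1, mul_inv_eq_iff_eq_mul.1 ?_⟩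
      rw [← hτ, map_mul, H.emb_τ, ← hv₀]
      calc H.t * v₀ * y * (H.t * v₀)⁻¹ = H.t * (v₀ * y * v₀⁻¹) * H.t⁻¹ := by group
        _ = (H.t * y * H.t⁻¹)⁻¹ := by rw [h2]; group
        _ = y := by rw [h1, inv_inv]
  have no_big : ∀ p ∈ [7, 11, 19], ¬ p ∣ Nat.card X := by
    intro p hp hd
    have hpp : p.Prime ∧ p ≠ 2 ∧ ¬ p * p ∣ 175560 ∧ ¬ p ∣ 120 := by
      fin_cases hp <;> norm_num
    obtain ⟨y, hyo, -, h1, h2⟩ := stable p hpp.1 hpp.2.1 hpp.2.2.1 hd
    refine hpp.2.2.2 (hyo ▸ ?_)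
    rcases split h1 h2 with h | ⟨-, b, h⟩
    · exact small Alt.τ K_pow_fifteen.2.1 K_pow_fifteen.2.2 y (by rw [H.emb_τ]; exact h)
    · exact small (b, a1) (inv_facts b).1 (inv_facts b).2.1 y h
  have h30 : Nat.card X ∣ 30 := by
    have hco : Nat.Coprime (Nat.card X) 1463 := by
      have h := fun p hp => no_big p hp
      have e : (1463 : ℕ) = 7 * 11 * 19 := by norm_num
      rw [e]
      refine Nat.Coprime.mul_right (Nat.Coprime.mul_right ?_ ?_) ?_ <;>
        exact Nat.Coprime.symm ((Nat.Prime.coprime_iff_not_dvd (by norm_num)).2 (h _ (by simp)))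
    have h120 : Nat.card X ∣ 120 := hco.dvd_of_dvd_mul_right (by norm_num; exact hcard)
    have hle := Nat.le_of_dvd (by norm_num) h120
    generalize Nat.card X = m at h120 h4 hle
    interval_cases m <;> omega
  have h5 : 5 ∣ Nat.card X := by
    by_contra h5
    have h6 : Nat.card X = 6 := by
      have hle := Nat.le_of_dvd (by norm_num) h30
      generalize Nat.card X = m at h30 h2 h3 h5 hle
      interval_cases m <;> omega
    -- then the Sylow 3-subgroups are too few
    set Q : Subgroup G := Subgroup.zpowers x with hQ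
    have hQc : Nat.card Q = 3 := by rw [hQ, Nat.card_zpowers, hxo]
    let P : Sylow 3 G := Sylow.ofCard Q (by
      rw [hQc, hG, Nat.factorization_def _ Nat.prime_three]
      norm_num [show padicValNat 3 175560 = 1 by decide +kernel])
    have hXN : X ≤ Subgroup.normalizer (Q : Set G) := fun g hg => Subgroup.mem_normalizer_fintype fun z hz => by
      obtain ⟨i, rfl⟩ := Subgroup.mem_zpowers_iff.1 hz
      exact Subgroup.mem_zpowers_iff.2 ⟨i, by
        rw [← conj_zpow, mul_inv_eq_iff_eq_mul.2 ((memX g).1 hg)]⟩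
    have hvN : v₀ ∈ Subgroup.normalizer (Q : Set G) := Subgroup.mem_normalizer_fintype fun z hz => by
      obtain ⟨i, rfl⟩ := Subgroup.mem_zpowers_iff.1 hz
      exact Subgroup.mem_zpowers_iff.2 ⟨-i, by rw [← conj_zpow, hvx, inv_zpow, zpow_neg]⟩
    have hvX : v₀ ∉ X := fun h => by
      have h1 := hvx (Multiplicative.ofAdd 0)
      rw [← hv₀, mul_inv_eq_iff_eq_mul.2 ((memX _).1 h)] at h1
      have := hxo ▸ orderOf_dvd_of_pow_eq_one (show x ^ 2 = 1 by rw [sq]; exact eq_inv_iff_mul_eq_one.1 h1)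
      norm_num at this
    have hidx : (X.subgroupOf (Subgroup.normalizer (Q : Set G))).index = 2 := by
      refine Subgroup.index_eq_two_iff.2 ⟨⟨v₀, hvN⟩, fun ⟨g, hg⟩ => ?_⟩
      simp only [Subgroup.mem_subgroupOf, Subgroup.coe_mul]
      have hgx := (Subgroup.mem_normalizer_iff.1 hg x).1 (Subgroup.mem_zpowers x)
      obtain ⟨i, hi⟩ := conj_eq_pow_of_mem hgx
      rw [← pow_mod_orderOf, hxo] at hi
      have hi3 : i % 3 = 1 ∨ i % 3 = 2 := by
        rcases (show i % 3 = 0 ∨ i % 3 = 1 ∨ i % 3 = 2 by omega) with h | h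
        · rw [h, pow_zero, conj_eq_one_iff] at hi
          rw [hi, orderOf_one] at hxo
          norm_num at hxo
        · exact h
      rcases hi3 with h | h <;> rw [h] at hi
      · rw [pow_one] at hi
        have hgX : g ∈ X := (memX g).2 (mul_inv_eq_iff_eq_mul.1 hi)
        exact Or.inr ⟨hgX, fun hc => hvX ((Subgroup.mul_mem_cancel_left X hgX).1 hc)⟩
      · refine Or.inl ⟨(memX _).2 (mul_inv_eq_iff_eq_mul.1 ?_), fun hgX => ?_⟩
        · rw [show x ^ 2 = x⁻¹ from eq_inv_iff_mul_eq_one.2 (by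
            rw [← pow_succ]
            have h3 := pow_orderOf_eq_one x
            rw [hxo] at h3
            exact h3)] at hi
          calc g * v₀ * x * (g * v₀)⁻¹ = g * (v₀ * x * v₀⁻¹) * g⁻¹ := by group
            _ = (g * x * g⁻¹)⁻¹ := by rw [hvx]; group
            _ = x := by rw [hi, inv_inv]
        · rw [mul_inv_eq_iff_eq_mul.2 ((memX g).1 hgX)] at hi
          have := hxo ▸ orderOf_dvd_of_pow_eq_one (show x ^ 1 = 1 by
            rw [pow_one]
            exact mul_left_cancel (a := x) (by rw [mul_one, ← sq]; exact hi.symm))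
          norm_num at this
    have hN : Nat.card (Subgroup.normalizer (Q : Set G)) = 12 := by
      rw [← (X.subgroupOf _).card_mul_index, hidx,
        Nat.card_congr (Subgroup.subgroupOfEquivOfLe hXN).toEquiv, h6]
    have hn := P.card_eq_index_normalizer
    have hmod := card_sylow_modEq_one 3 G
    have hPQ : (P : Set G) = (Q : Set G) := rfl
    rw [hn, hPQ] at hmod
    have hi := (Subgroup.normalizer (Q : Set G)).card_mul_index
    rw [hN, hG] at hi
    rw [show (Subgroup.normalizer (Q : Set G)).index = 14630 by omega] at hmod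
    norm_num [Nat.ModEq] at hmod
  obtain ⟨y, hyo, hxy, h1, h2⟩ := stable 5 (by norm_num) (by norm_num) (by norm_num) h5
  have hy1 : y ≠ 1 := fun h => by rw [h, orderOf_one] at hyo; norm_num at hyo
  have hy5 : y ^ 5 = 1 := hyo ▸ pow_orderOf_eq_one y
  rcases split h1 h2 with h | ⟨hti, b, hb⟩
  · exfalso
    have hmem : y ∈ H.C := Subgroup.mem_centralizer_singleton_iff.2 h.symm
    have he : H.emb (H.e ⟨y, hmem⟩) = y := H.emb_e _
    have := x5 (H.e ⟨y, hmem⟩) (H.emb_injective (by rw [map_mul, map_mul, he, ← hx]; exact hxy.symm))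
      (H.emb_injective (by rw [map_pow, he, hy5, map_one]))
    exact hy1 (by rw [← he, this, map_one])
  · exact ⟨y, b, hy5, hy1, hxy, hti, hb⟩

/-- The uniqueness theorem. -/
theorem iso_of_setup (H₀ : Setup G) : Cfsg.Spor.IsoJ1 G := by
  classical
  obtain ⟨H, d₀, hd7, hdne, hdS, hrd⟩ := exists_seven H₀
  obtain ⟨y, b, hy5, hy1, hxy, hty, hby⟩ := exists_five H
  obtain ⟨e1, e2, e4, eT, -⟩ := toK_facts
  obtain ⟨A₀, hA₀, hA⟩ := hdS 1 (by norm_num)
  obtain ⟨B₀, hB₀, hB⟩ := hdS 2 (by norm_num)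
  obtain ⟨C₀, hC₀, hC⟩ := hdS 4 (by norm_num)
  have hlin₀ := conj_lin H d₀ hA hB hC hA₀ hB₀ hC₀
  have hc₀ := compat_of H d₀ hd7 hdne hlin₀ hrd
  -- the power taking `t` to `(b, a1)`
  obtain ⟨i, hi, hib⟩ := (compat_facts _ hA₀ _ hB₀ _ hC₀).2 hc₀ b
  set d := d₀ ^ i with hd
  haveI := Fact.mk (show Nat.Prime 7 by norm_num)
  have hdo : orderOf d₀ = 7 := orderOf_eq_prime hd7 hdne
  have hd7' : d ^ 7 = 1 := by rw [hd, ← pow_mul, mul_comm, pow_mul, hd7, one_pow]
  obtain ⟨a1', a2'⟩ := conj_itl H d₀ hlin₀ i 1 (by norm_num)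
  rw [hib, e1, eT, H.emb_τ] at a2'
  have hdt : d * H.t * d⁻¹ = H.emb (b, a1) := a2'
  have hbτ : ((b, a1) : Alt.K) ≠ Alt.τ := (inv_facts b).2.2
  have hdne' : d ≠ 1 := fun h => hbτ (H.emb_injective (by
    rw [h] at hdt; simp only [one_mul, inv_one, mul_one] at hdt
    rw [← hdt, H.emb_τ]))
  have hrd' : H.emb (wval cK rW) * d * (H.emb (wval cK rW))⁻¹ = d ^ 2 := by
    rw [hd, ← conj_pow, hrd, ← pow_mul, ← pow_mul, mul_comm]
  obtain ⟨u1, u2⟩ := conj_itl H d₀ hlin₀ i 2 (by norm_num)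
  obtain ⟨w1, w2⟩ := conj_itl H d₀ hlin₀ i 4 (by norm_num)
  generalize itl A₀ B₀ C₀ i 2 = B at u1 u2
  generalize itl A₀ B₀ C₀ i 4 = C at w1 w2
  have hlin := conj_lin H d (A := imT b) (by rw [e1, eT, H.emb_τ]; exact hdt) u2 w2
    (by rcases two_cases b with ⟨-, h⟩ | ⟨-, h⟩ <;> omega) u1 w1
  have hc := compat_of H d hd7' hdne' hlin hrd'
  obtain ⟨p1, p2⟩ := conj_itl H d hlin 6 1 (by norm_num)
  rw [e1, H.emb_τ, show d ^ 6 = d⁻¹ from eq_inv_iff_mul_eq_one.2 (by rw [← pow_succ]; exact hd7')] at p2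
  -- the element of order five in coordinates
  have hzC : d⁻¹ * y * d ∈ H.C := Subgroup.mem_centralizer_singleton_iff.2 (by
    have e : H.t = d⁻¹ * H.emb (b, a1) * d := by rw [← hdt]; group
    rw [e]
    calc d⁻¹ * y * d * (d⁻¹ * H.emb (b, a1) * d) = d⁻¹ * (y * H.emb (b, a1)) * d := by group
      _ = d⁻¹ * (H.emb (b, a1) * y) * d := by rw [hby]
      _ = _ := by group)
  set z := H.e ⟨_, hzC⟩ with hz
  have hze : H.emb z = d⁻¹ * y * d := H.emb_e _
  have hz5 : z ^ 5 = 1 := H.emb_injective (by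
    have : d⁻¹ * y * d = d⁻¹ * y * d⁻¹⁻¹ := by rw [inv_inv]
    rw [map_pow, hze, map_one, this, conj_pow, hy5, mul_one, mul_inv_cancel])
  have hz1 : z ≠ 1 := fun h => hy1 (by
    have := hze; rw [h, map_one] at this
    have h2 : y = d * (d⁻¹ * y * d) * d⁻¹ := by group
    rw [h2, ← this, mul_one, mul_inv_cancel])
  have hinvz : toK (itl (imT b) B C 6 1) * z * (toK (itl (imT b) B C 6 1))⁻¹ = z⁻¹ := H.emb_injective (by
    rw [map_mul, map_mul, map_inv, map_inv, ← p2, hze]
    calc d⁻¹ * H.t * d⁻¹⁻¹ * (d⁻¹ * y * d) * (d⁻¹ * H.t * d⁻¹⁻¹)⁻¹ = d⁻¹ * (H.t * y * H.t⁻¹) * d := by group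
      _ = _ := by rw [hty]; group)
  have hrels : ∀ {o : Opt} {i0 i2 z' : Alt.K}, OptVal o (toK (imT b)) i0 i2 (wval cK xW) z' →
      toK B = i0 → toK C = i2 → (∃ j, z ^ j = z') →
      ∀ w ∈ rels o, wval (gens H.emb d) w = 1 := by
    intro o i0 i2 z' ho hi0 hi2 hj
    obtain ⟨j, rfl⟩ := hj
    refine rels_hold H.emb d ho hd7' (by rw [H.emb_τ, eT]; exact hdt)
      (by rw [← e2, ← hi0]; exact u2) (by rw [← e4, ← hi2]; exact w2) hrd' ?_
    have : d * H.emb (z ^ j) * d⁻¹ = y ^ j := by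
      rw [map_pow, ← conj_pow, hze]
      congr 1; group
    rw [this]
    exact (Commute.pow_right (hxy : Commute _ y) j).eq
  have hp := paired_gens H.emb d
  have hbad : ∀ {o : Opt}, o = optA ∨ o = optB ∨ o = optC →
      (∀ w ∈ rels o, wval (gens H.emb d) w = 1) → False := by
    intro o ho hw
    have hle : refl (gens H.emb d) ≤ H.C := (Subgroup.closure_le _).2 (by
      rintro g ⟨k, hk, rfl⟩
      have : k < 3 := hk
      interval_cases k <;> exact H.emb_mem _)
    have h1 : d ∈ H.C := hle (bad_mem hp ho hw)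
    have h2 := Subgroup.mem_centralizer_singleton_iff.1 h1
    refine hbτ (H.emb_injective ?_)
    rw [← hdt, h2, mul_inv_cancel_right, H.emb_τ]
  obtain ⟨oG, oA, oB, oC⟩ := opt_val
  rcases two_cases b with ⟨-, hb⟩ | ⟨-, hb⟩ <;> rw [hb] at hc hinvz hrels
  · obtain ⟨q0, q2⟩ := (compat_unique _ u1 _ w1).1 hc
    obtain ⟨j, hj⟩ := pre_use pre_checks.1 u1 w1 hc hz5 hz1 hinvz
    rcases hj with hj | hj
    · refine iso_of_good H₀.card_eq hp (hrels oG q0 q2 ⟨j, hj⟩) fun h => ?_
      have : cK 0 = 1 := H.emb_injective (h.trans (map_one _).symm)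
      exact absurd this (by decide +kernel)
    · exact (hbad (Or.inl rfl) (hrels oA q0 q2 ⟨j, hj⟩)).elim
  · obtain ⟨q0, q2⟩ := (compat_unique _ u1 _ w1).2 hc
    obtain ⟨j, hj⟩ := pre_use pre_checks.2 u1 w1 hc hz5 hz1 hinvz
    rcases hj with hj | hj
    · exact (hbad (Or.inr (Or.inl rfl)) (hrels oB q0 q2 ⟨j, hj⟩)).elim
    · exact (hbad (Or.inr (Or.inr rfl)) (hrels oC q0 q2 ⟨j, hj⟩)).elim

end

end Cfsg.Agent.J1Unique
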