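import Cfsg.Agent.Lib.J1Unique.BadAData

/-!
# Coset certificate check, a part
-/

set_option autoImplicit false
set_option linter.all false
set_option maxRecDepth 100000

namespace Cfsg.Agent.J1Unique.BadA

open Cfsg.Agent.CosetCert (Tree)

theorem steps0_0 : allRange (stepOK table.C) 0 500 = true := by decide +kernel
theorem steps0_1 : allRange (stepOK table.C) 500 500 = true := by decide +kernel
theorem steps0_2 : allRange (stepOK table.C) 1000 144 = true := by decide +kernel

theorem steps0 : ∀ i, 0 ≤ i → i < 1144 → stepOK table.C i = true :=
  fun i h h' => (allRange_append (allRange_append (allRange_spec _ _ steps0_0) steps0_1) steps0_2) i h h'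

end Cfsg.Agent.J1Unique.BadA
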