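import Cfsg.Agent.Lib.CosetCert.Check

/-!
# Coset certificates with inverse letters

As in `CosetCert.Check`, a certificate is a list of facts `x • q u = q v`, each following from the earlier ones by
a relator. Here the letters need not be involutions: `iv` names the inverse of a letter, the letter `K` is empty.
-/

set_option autoImplicit false
set_option linter.all false

noncomputable section

namespace Cfsg.Agent.J1Unique

open Cfsg.Agent.CosetCert (Tree beqList beqList_iff getWord getWord_mem consLetter act act_append act_injective)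

def pU (s : ℕ) : ℕ := Nat.land s 1048575
def pV (s : ℕ) : ℕ := Nat.land (Nat.shiftRight s 20) 1048575
def pX (s : ℕ) : ℕ := Nat.land (Nat.shiftRight s 40) 15
def pKind (s : ℕ) : ℕ := Nat.land (Nat.shiftRight s 44) 3
def pR (s : ℕ) : ℕ := Nat.land (Nat.shiftRight s 46) 255
def pA (s : ℕ) : ℕ := Nat.land (Nat.shiftRight s 54) 1023
def pB (s : ℕ) : ℕ := Nat.land (Nat.shiftRight s 64) 1023
def pM (s : ℕ) : ℕ := Nat.land (Nat.shiftRight s 74) 1048575
def pBody (s : ℕ) : ℕ := Nat.shiftRight s 94

def ivOf (T x : ℕ) : ℕ := Nat.land (Nat.shiftRight T (Nat.mul 4 x)) 15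

/-- The data. -/
structure PCert where
  K : ℕ
  IV : ℕ
  W : List (List ℕ)
  S : List (List ℕ)
  F : Tree
  N : ℕ

/-- Follow a packed path of earlier facts. -/
def walk (C : PCert) (bound : ℕ) : ℕ → ℕ → ℕ → Option (ℕ × List ℕ × ℕ)
  | 0, body, cur => some (cur, [], body)
  | n + 1, body, cur =>
    match Nat.blt (Nat.land body 1048575) bound with
    | false => none
    | true =>
      let f := C.F.get (Nat.land body 1048575)
      match Nat.beq (pU f) cur with
      | true => (walk C bound n (Nat.shiftRight body 20) (pV f)).map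
          fun p => (p.1, consLetter C.K (pX f) p.2.1, p.2.2)
      | false => match Nat.beq (pV f) cur with
        | true => (walk C bound n (Nat.shiftRight body 20) (pU f)).map
            fun p => (p.1, consLetter C.K (ivOf C.IV (pX f)) p.2.1, p.2.2)
        | false => none

def nextM (s : ℕ) : ℕ := cond (Nat.beq (pKind s) 0) (Nat.succ (pM s)) (pM s)

/-- The justification of fact `i`. -/
def ruleOK (C : PCert) (i s : ℕ) : Bool :=
  match pKind s with
  | 0 => Nat.blt (pU s) (pM s) && Nat.beq (pV s) (pM s) && Nat.blt (pX s) C.K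
  | k + 1 =>
    Nat.blt (pU s) (pM s) && Nat.blt (pV s) (pM s) && Nat.ble (pX s) C.K &&
    match walk C i (pA s) (pBody s) (pV s) with
    | none => false
    | some (c, w1, body) =>
      match walk C i (pB s) body c with
      | none => false
      | some (e, w2, _) => Nat.beq e (pU s) &&
        match k with
        | 0 => beqList (getWord C.W (pR s)) (w2 ++ consLetter C.K (pX s) w1)
        | _ + 1 => Nat.beq c 0 && beqList (getWord C.S (pR s)) (w2 ++ consLetter C.K (pX s) w1)

/-- The check of fact `i`. -/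
def stepOK (C : PCert) (i : ℕ) : Bool :=
  ruleOK C i (C.F.get i) &&
    (Nat.beq (Nat.succ i) C.N || Nat.beq (pM (C.F.get (Nat.succ i))) (nextM (C.F.get i)))

/-- The check of `f` on `[a, a + n)`, by halves. -/
def allRange (f : ℕ → Bool) : ℕ → ℕ → Bool
  | _, 0 => true
  | a, n + 1 => f a && allRange f (Nat.succ a) n

theorem allRange_spec {f : ℕ → Bool} :
    ∀ n a, allRange f a n = true → ∀ i, a ≤ i → i < a + n → f i = true := by
  intro n
  induction n with
  | zero => intro a _ i h1 h2; omega
  | succ n ih =>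
    intro a h i h1 h2
    simp only [allRange, Bool.and_eq_true] at h
    rcases Nat.eq_or_lt_of_le h1 with e | e
    · exact e ▸ h.1
    · exact ih (Nat.succ a) h.2 i (by omega) (by omega)

theorem allRange_append {f : ℕ → Bool} {a b n : ℕ} (h₁ : ∀ i, a ≤ i → i < b → f i = true)
    (h₂ : allRange f b n = true) : ∀ i, a ≤ i → i < b + n → f i = true := by
  intro i hi hi'
  rcases lt_or_ge i b with h | h
  · exact h₁ i hi h
  · exact allRange_spec n b h₂ i h hi'

section Sound

variable {G Q : Type*} [Group G] [MulAction G Q] (g : ℕ → G) (C : PCert) (q₀ : Q) (q : ℕ → Q)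

/-- The hypotheses on the generators. -/
structure Sat : Prop where
  inv : ∀ x, x < C.K → g (ivOf C.IV x) * g x = 1
  iv_self : ivOf C.IV C.K = C.K
  iv_lt : ∀ x, x < C.K → ivOf C.IV x < C.K
  rel : ∀ w ∈ C.W, ∀ q : Q, act g w q = q
  sub : ∀ w ∈ C.S, act g w q₀ = q₀

/-- The meaning of a fact. -/
def Valid (s : ℕ) : Prop := act g (consLetter C.K (pX s) []) (q (pU s)) = q (pV s) ∧ pX s ≤ C.K

theorem act_consLetter (x : ℕ) (w : List ℕ) (p : Q) :
    act g (consLetter C.K x w) p = act g w (act g (consLetter C.K x []) p) := by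
  cases h : Nat.beq x C.K <;> simp [consLetter, h, act]

theorem act_letter_symm (hC : Sat g C q₀) {x : ℕ} (hx : x ≤ C.K) {a b : Q}
    (h : act g (consLetter C.K x []) a = b) : act g (consLetter C.K (ivOf C.IV x) []) b = a := by
  subst h
  rcases Nat.eq_or_lt_of_le hx with rfl | hlt
  · rw [hC.iv_self]; simp [consLetter, act]
  · have h1 : Nat.beq x C.K = false := Bool.eq_false_iff.2 fun h => hlt.ne (Nat.eq_of_beq_eq_true h)
    have h2 : Nat.beq (ivOf C.IV x) C.K = false :=
      Bool.eq_false_iff.2 fun h => (hC.iv_lt x hlt).ne (Nat.eq_of_beq_eq_true h)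
    simp [consLetter, h1, h2, act, ← mul_smul, hC.inv x hlt]

theorem walk_sound (hC : Sat g C q₀) {i : ℕ} (hv : ∀ j < i, Valid g C q (C.F.get j)) :
    ∀ (n body cur : ℕ) {c : ℕ} {w : List ℕ} {b : ℕ}, walk C i n body cur = some (c, w, b) →
      act g w (q cur) = q c := by
  intro n
  induction n with
  | zero =>
    intro body cur c w b h
    simp only [walk, Option.some.injEq, Prod.mk.injEq] at h
    obtain ⟨rfl, rfl, -⟩ := h
    rfl
  | succ n ih =>
    intro body cur c w b h
    simp only [walk] at h
    split at h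
    · exact absurd h (by simp)
    · next hlt =>
      have hj : Nat.land body 1048575 < i := by simpa [Nat.blt] using hlt
      obtain ⟨hvj, hxj⟩ := hv _ hj
      split at h
      · next hu =>
        rw [Option.map_eq_some_iff] at h
        obtain ⟨⟨c', w', b'⟩, hw, he⟩ := h
        simp only [Prod.mk.injEq] at he
        obtain ⟨rfl, rfl, -⟩ := he
        rw [act_consLetter, ← Nat.eq_of_beq_eq_true hu, hvj]
        exact ih _ _ hw
      · split at h
        · next hu =>
          rw [Option.map_eq_some_iff] at h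
          obtain ⟨⟨c', w', b'⟩, hw, he⟩ := h
          simp only [Prod.mk.injEq] at he
          obtain ⟨rfl, rfl, -⟩ := he
          rw [act_consLetter, ← Nat.eq_of_beq_eq_true hu, act_letter_symm g C q₀ hC hxj hvj]
          exact ih _ _ hw
        · exact absurd h (by simp)

/-- The names of the cosets. -/
theorem exists_naming (hC : Sat g C q₀) (h0 : pM (C.F.get 0) = 1)
    (hall : ∀ i < C.N, stepOK C i = true) :
    ∃ q : ℕ → Q, q 0 = q₀ ∧ ∀ j < C.N, Valid g C q (C.F.get j) := by
  suffices key : ∀ i, i ≤ C.N → ∃ (q : ℕ → Q) (M : ℕ), q 0 = q₀ ∧ 0 < M ∧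
      (i < C.N → pM (C.F.get i) = M) ∧
      ∀ j < i, Valid g C q (C.F.get j) ∧ pU (C.F.get j) < M ∧ pV (C.F.get j) < M by
    obtain ⟨q, _, hq0, _, _, hq⟩ := key C.N le_rfl
    exact ⟨q, hq0, fun j hj => (hq j hj).1⟩
  intro i
  induction i with
  | zero => exact fun _ => ⟨fun _ => q₀, 1, rfl, one_pos, fun _ => h0, fun j hj => absurd hj (by omega)⟩
  | succ i ih =>
    intro hi
    obtain ⟨q, M, hq0, hMpos, hM, hq⟩ := ih (by omega)
    have hM' := hM (by omega)
    have hok := hall i (by omega)
    simp only [stepOK, Bool.and_eq_true, Bool.or_eq_true] at hok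
    obtain ⟨hrule, hnext⟩ := hok
    have hnext' : i + 1 < C.N → pM (C.F.get (i + 1)) = nextM (C.F.get i) := fun h => by
      rcases hnext with e | e
      · have := Nat.eq_of_beq_eq_true e
        omega
      · exact Nat.eq_of_beq_eq_true e
    generalize hs : C.F.get i = s at hrule hnext' hM'
    unfold ruleOK at hrule
    cases hk : pKind s with
    | zero =>
      rw [hk] at hrule
      simp only [Bool.and_eq_true] at hrule
      obtain ⟨⟨hu, hv⟩, hx⟩ := hrule
      have hx' : pX s < C.K := by simpa [Nat.blt] using hx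
      have hu' : pU s < M := hM' ▸ (by simpa [Nat.blt] using hu)
      have hv' : pV s = M := (Nat.eq_of_beq_eq_true hv).trans hM'
      refine ⟨Function.update q M (act g (consLetter C.K (pX s) []) (q (pU s))), M + 1, ?_, by omega, ?_, ?_⟩
      · rw [Function.update_of_ne (by omega)]; exact hq0
      · intro h
        rw [hnext' h, nextM, hk, hM']
        rfl
      · intro j hj
        rcases Nat.lt_succ_iff_lt_or_eq.mp hj with hj | rfl
        · obtain ⟨⟨h1, h1'⟩, h2, h3⟩ := hq j hj
          refine ⟨⟨?_, h1'⟩, by omega, by omega⟩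
          rw [Function.update_of_ne (by omega), Function.update_of_ne (by omega)]
          exact h1
        · rw [hs]
          refine ⟨⟨?_, hx'.le⟩, by omega, by omega⟩
          rw [hv', Function.update_self, Function.update_of_ne (by omega)]
    | succ k =>
      rw [hk] at hrule
      simp only [Bool.and_eq_true] at hrule
      obtain ⟨⟨⟨hu, hv⟩, hx⟩, hrest⟩ := hrule
      have hx' : pX s ≤ C.K := by simpa using hx
      have hu' : pU s < M := hM' ▸ (by simpa [Nat.blt] using hu)
      have hv' : pV s < M := hM' ▸ (by simpa [Nat.blt] using hv)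
      refine ⟨q, M, hq0, hMpos, ?_, ?_⟩
      · intro h
        rw [hnext' h, nextM, hk, hM']
        rfl
      intro j hj
      rcases Nat.lt_succ_iff_lt_or_eq.mp hj with hj | rfl
      · exact hq j hj
      rw [hs]
      refine ⟨⟨?_, hx'⟩, hu', hv'⟩
      have hval : ∀ l < j, Valid g C q (C.F.get l) := fun l hl => (hq l hl).1
      split at hrest
      · exact absurd hrest (by simp)
      · next c w1 body hw1 =>
        split at hrest
        · exact absurd hrest (by simp)
        · next e w2 b hw2 =>
          simp only [Bool.and_eq_true] at hrest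
          obtain ⟨he, hrest⟩ := hrest
          have e1 := walk_sound g C q₀ q hC hval _ _ _ hw1
          have e2 := walk_sound g C q₀ q hC hval _ _ _ hw2
          rw [Nat.eq_of_beq_eq_true he] at e2
          have hloop : ∀ W : List ℕ, W = w2 ++ consLetter C.K (pX s) w1 → act g W (q c) = q c →
              act g (consLetter C.K (pX s) []) (q (pU s)) = q (pV s) := by
            intro W hW hfix
            rw [hW, act_append, e2, act_consLetter, ← e1] at hfix
            exact act_injective g w1 hfix
          split at hrest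
          · refine hloop _ (beqList_iff hrest) ?_
            rcases getWord_mem (l := C.W) (n := pR s) with h | h
            · exact hC.rel _ h _
            · rw [h]; rfl
          · simp only [Bool.and_eq_true] at hrest
            obtain ⟨hc, hrest⟩ := hrest
            refine hloop _ (beqList_iff hrest) ?_
            rw [Nat.eq_of_beq_eq_true hc, hq0]
            rcases getWord_mem (l := C.S) (n := pR s) with h | h
            · exact hC.sub _ h
            · rw [h]; rfl

end Sound

/-- A certificate with its closed table: `R` holds the name of each coset, `E` one packed cell for each pair. -/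
structure PTable where
  C : PCert
  n : ℕ
  R : Tree
  E : Tree

def eF (e : ℕ) : ℕ := Nat.land e 1048575
def eD (e : ℕ) : ℕ := Nat.shiftRight e 20

/-- The check of one cell. -/
def cellOK (D : PTable) (i : ℕ) : Bool :=
  let e := D.E.get i
  let f := D.C.F.get (eF e)
  let x := Nat.mod i D.C.K
  let a := D.R.get (Nat.div i D.C.K)
  let b := D.R.get (eD e)
  Nat.blt (eD e) D.n && Nat.blt (eF e) D.C.N &&
    ((Nat.beq (pX f) x && Nat.beq (pU f) a && Nat.beq (pV f) b) ||
     (Nat.beq (ivOf D.C.IV (pX f)) x && Nat.beq (pV f) a && Nat.beq (pU f) b))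

/-- The small side conditions. -/
def baseOK (D : PTable) : Bool :=
  Nat.beq (pM (D.C.F.get 0)) 1 && Nat.beq (D.R.get 0) 0 && Nat.blt 0 D.n &&
    Nat.beq (ivOf D.C.IV D.C.K) D.C.K &&
    allRange (fun x => Nat.blt (ivOf D.C.IV x) D.C.K) 0 D.C.K

/-- Everything that has to be evaluated. -/
structure Checked (D : PTable) : Prop where
  base : baseOK D = true
  steps : ∀ i < D.C.N, stepOK D.C i = true
  cells : ∀ i < D.n * D.C.K, cellOK D i = true

section Cover

variable {G Q : Type*} [Group G] [MulAction G Q] {g : ℕ → G} {q₀ : Q} {D : PTable}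

/-- The table covers the orbit of the base point. -/
theorem cover (hD : Checked D) (hinv : ∀ x, x < D.C.K → g (ivOf D.C.IV x) * g x = 1)
    (hrel : ∀ w ∈ D.C.W, ∀ q : Q, act g w q = q) (hsub : ∀ w ∈ D.C.S, act g w q₀ = q₀) :
    ∃ p : ℕ → Q, ∀ k ∈ Subgroup.closure (g '' {x | x < D.C.K}), ∃ c < D.n, k • q₀ = p c := by
  have hb := hD.base
  simp only [baseOK, Bool.and_eq_true] at hb
  obtain ⟨⟨⟨⟨h0, hR0⟩, hn⟩, hself⟩, hlt⟩ := hb
  have hlt' : ∀ x, x < D.C.K → ivOf D.C.IV x < D.C.K := fun x hx => by
    simpa [Nat.blt] using allRange_spec _ _ hlt x (Nat.zero_le _) (by omega)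
  have hC : Sat g D.C q₀ := ⟨hinv, Nat.eq_of_beq_eq_true hself, hlt', hrel, hsub⟩
  obtain ⟨q, hq0, hq⟩ := exists_naming g D.C q₀ hC (Nat.eq_of_beq_eq_true h0) hD.steps
  refine ⟨fun c => q (D.R.get c), ?_⟩
  have hmove : ∀ x < D.C.K, ∀ c < D.n, ∃ d < D.n, g x • q (D.R.get c) = q (D.R.get d) := by
    intro x hx c hc
    have hi : c * D.C.K + x < D.n * D.C.K := by
      calc c * D.C.K + x < c * D.C.K + D.C.K := by omega
        _ = (c + 1) * D.C.K := by ring
        _ ≤ D.n * D.C.K := Nat.mul_le_mul_right _ hc
    have h := hD.cells _ hi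
    have e1 : (c * D.C.K + x) / D.C.K = c := by
      rw [Nat.add_comm, Nat.add_mul_div_right _ _ (by omega), Nat.div_eq_of_lt hx, Nat.zero_add]
    have e2 : (c * D.C.K + x) % D.C.K = x := by
      rw [Nat.add_comm, Nat.add_mul_mod_self_right, Nat.mod_eq_of_lt hx]
    simp only [cellOK, Bool.and_eq_true, Bool.or_eq_true] at h
    obtain ⟨⟨hd, hf⟩, h⟩ := h
    have hd' : eD (D.E.get (c * D.C.K + x)) < D.n := by simpa [Nat.blt] using hd
    have hf' : eF (D.E.get (c * D.C.K + x)) < D.C.N := by simpa [Nat.blt] using hf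
    refine ⟨_, hd', ?_⟩
    obtain ⟨hv, hvx⟩ := hq _ hf'
    have hne : ∀ y, y = x → consLetter D.C.K y [] = [x] := fun y hy => by
      have : Nat.beq y D.C.K = false :=
        Bool.eq_false_iff.2 fun h => (hy ▸ hx.ne) (Nat.eq_of_beq_eq_true h)
      simp [consLetter, hy ▸ this, hy]
    rcases h with ⟨⟨hfx, hfu⟩, hfv⟩ | ⟨⟨hfx, hfv⟩, hfu⟩
    · rw [hne _ ((Nat.eq_of_beq_eq_true hfx).trans e2)] at hv
      rw [Nat.eq_of_beq_eq_true hfu, Nat.eq_of_beq_eq_true hfv] at hv
      simpa [act, show Nat.div (c * D.C.K + x) D.C.K = c from e1] using hv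
    · have hs := act_letter_symm g D.C q₀ hC hvx hv
      rw [hne _ ((Nat.eq_of_beq_eq_true hfx).trans e2)] at hs
      rw [Nat.eq_of_beq_eq_true hfu, Nat.eq_of_beq_eq_true hfv] at hs
      simpa [act, show Nat.div (c * D.C.K + x) D.C.K = c from e1] using hs
  have hall : ∀ k ∈ Subgroup.closure (g '' {x | x < D.C.K}),
      ∀ c < D.n, ∃ d < D.n, k • q (D.R.get c) = q (D.R.get d) := by
    intro k hk
    induction hk using Subgroup.closure_induction'' with
    | mem y hy => obtain ⟨x, hx, rfl⟩ := hy; exact hmove x hx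
    | inv_mem y hy =>
      obtain ⟨x, hx, rfl⟩ := hy
      rw [inv_eq_of_mul_eq_one_left (hinv x hx)]
      exact hmove _ (hlt' x hx)
    | one => exact fun c hc => ⟨c, hc, one_smul _ _⟩
    | mul a b _ _ iha ihb =>
      intro c hc
      obtain ⟨d, hd, e⟩ := ihb c hc
      obtain ⟨d', hd', e'⟩ := iha d hd
      exact ⟨d', hd', by rw [mul_smul, e, e']⟩
  intro k hk
  have hn' : 0 < D.n := Nat.le_of_ble_eq_true hn
  obtain ⟨d, hd, e⟩ := hall k hk 0 hn'
  refine ⟨d, hd, ?_⟩
  show k • q₀ = q (D.R.get d)
  rw [← e, Nat.eq_of_beq_eq_true hR0, hq0]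

end Cover

/-- The value of a word: the product of its letters. -/
def wval {G : Type*} [Group G] (a : ℕ → G) : List ℕ → G
  | [] => 1
  | y :: w => a y * wval a w

theorem act_inv {G Q : Type*} [Group G] [MulAction G Q] (a : ℕ → G) :
    ∀ (w : List ℕ) (p : Q), act (fun x => (a x)⁻¹) w p = (wval a w)⁻¹ • p
  | [], p => by simp [act, wval]
  | y :: w, p => by rw [act, act_inv a w, wval, mul_inv_rev, mul_smul]

theorem map_wval {G H : Type*} [Group G] [Group H] (f : G →* H) (a : ℕ → G) :
    ∀ w : List ℕ, f (wval a w) = wval (fun x => f (a x)) w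
  | [] => map_one f
  | y :: w => by rw [wval, wval, map_mul, map_wval f a w]

theorem wval_append {G : Type*} [Group G] (a : ℕ → G) :
    ∀ u v : List ℕ, wval a (u ++ v) = wval a u * wval a v
  | [], v => by simp [wval]
  | y :: u, v => by rw [List.cons_append, wval, wval, wval_append a u v, mul_assoc]

theorem wval_mem {G : Type*} [Group G] (a : ℕ → G) {M : Subgroup G} :
    ∀ {w : List ℕ}, (∀ y ∈ w, a y ∈ M) → wval a w ∈ M
  | [], _ => one_mem _
  | y :: w, h => mul_mem (h y List.mem_cons_self) (wval_mem a fun z hz => h z (List.mem_cons_of_mem _ hz))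

end Cfsg.Agent.J1Unique
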