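import Cfsg.Agent.Lib.J1Unique.Local

/-!
# The element of order seven

In coordinates `n = i + 2j + 4k ↦ τ^i c₀^j c₂^k` on the Sylow 2-subgroup.
-/

set_option autoImplicit false
set_option linter.all false
set_option maxRecDepth 100000
set_option maxHeartbeats 1000000
set_option synthInstance.maxHeartbeats 200000
set_option synthInstance.maxSize 1000

namespace Cfsg.Agent.J1Unique

open Cfsg.Agent.J1Order

universe u

instance instDecEqK : DecidableEq Alt.K := inferInstance

/-- The element with the given coordinates. -/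
def toK (n : ℕ) : Alt.K :=
  (if n % 2 = 1 then Alt.τ else 1) * (if n / 2 % 2 = 1 then cK 0 else 1) *
    (if n / 4 % 2 = 1 then cK 2 else 1)

/-- The linear map with the given images of the three basis elements. -/
def lin (A B C n : ℕ) : ℕ :=
  ((if n % 2 = 1 then A else 0) ^^^ (if n / 2 % 2 = 1 then B else 0)) ^^^ (if n / 4 % 2 = 1 then C else 0)

def itl (A B C : ℕ) : ℕ → ℕ → ℕ
  | 0, n => n
  | j + 1, n => lin A B C (itl A B C j n)

/-- The action of the element of order three. -/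
def rot (n : ℕ) : ℕ := lin 1 4 7 n

/-- The conditions on a linear map normalized by `rot` with exponent `k`. -/
def compat (A B C k : ℕ) : Bool :=
  ((List.range 6).all fun j => !Nat.beq (itl A B C (j + 1) 1) 1) &&
    (List.range 8).all fun n =>
      Nat.beq (itl A B C 7 n) n && Nat.beq (rot (lin A B C n)) (itl A B C k (rot n))

/-- The coordinates of `(b, a1)`. -/
def imT (b : Multiplicative (ZMod 2)) : ℕ := if b = 1 then 3 else 2

theorem compat_facts : ∀ A < 8, ∀ B < 8, ∀ C < 8,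
    compat A B C 1 = false ∧
    (compat A B C 2 = true → ∀ b : Multiplicative (ZMod 2), ∃ i < 7, itl A B C i 1 = imT b) := by
  decide +kernel

theorem compat_unique : ∀ B < 8, ∀ C < 8,
    (compat 3 B C 2 = true → toK B = wval cK optGood.i0 ∧ toK C = wval cK optGood.i2) ∧
    (compat 2 B C 2 = true → toK B = wval cK optB.i0 ∧ toK C = wval cK optB.i2) := by
  decide +kernel

theorem toK_facts : toK 1 = Alt.τ ∧ toK 2 = cK 0 ∧ toK 4 = cK 2 ∧
    (∀ b : Multiplicative (ZMod 2), toK (imT b) = (b, a1)) ∧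
    (∀ n < 8, inS (toK n) = true ∧ rot n < 8 ∧ wval cK rW * toK n * (wval cK rW)⁻¹ = toK (rot n)) := by
  decide +kernel

theorem toK_hom : ∀ m < 8, ∀ n < 8, toK (m ^^^ n) = toK m * toK n ∧ m ^^^ n < 8 := by decide +kernel

theorem orbit_count : Nat.card {k : Alt.K // inS k = true ∧ k ≠ 1} = 7 := by
  rw [Nat.card_eq_fintype_card]; decide +kernel

theorem toK_inj : ∀ m < 8, ∀ n < 8, toK m = toK n → m = n := by decide +kernel

theorem toK_surj : ∀ k : Alt.K, inS k = true → ∃ n < 8, toK n = k := by decide +kernel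

theorem lin_eq : ∀ n < 8, (n % 2 = 1 ∨ n % 2 = 0) ∧
    n = ((if n % 2 = 1 then 1 else 0) ^^^ (if n / 2 % 2 = 1 then 2 else 0)) ^^^
      (if n / 4 % 2 = 1 then 4 else 0) := by decide +kernel

/-- Conjugation by a transposition. -/
def twist : Alt.K ≃* Alt.K :=
  MulEquiv.prodCongr (MulEquiv.refl _)
    { toFun := fun p => ⟨Equiv.swap 2 3 * p.1 * Equiv.swap 2 3, by
        have h := p.2
        rw [Equiv.Perm.mem_alternatingGroup] at h ⊢
        simp [h]⟩
      invFun := fun p => ⟨Equiv.swap 2 3 * p.1 * Equiv.swap 2 3, by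
        have h := p.2
        rw [Equiv.Perm.mem_alternatingGroup] at h ⊢
        simp [h]⟩
      left_inv := fun p => Subtype.ext (by simp [mul_assoc, Equiv.swap_mul_self, Equiv.swap_mul_self_mul])
      right_inv := fun p => Subtype.ext (by simp [mul_assoc, Equiv.swap_mul_self, Equiv.swap_mul_self_mul])
      map_mul' := fun p q => Subtype.ext (by simp [mul_assoc, Equiv.swap_mul_self_mul]) }

theorem twist_facts : (∀ k : Alt.K, twist (twist k) = k) ∧ (∀ k : Alt.K, inS k = true → inS (twist k) = true) ∧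
    twist (wval cK rW) = (wval cK rW)⁻¹ ∧ wval cK rW ^ 3 = 1 ∧ wval cK rW ≠ 1 ∧
    (∀ k : Alt.K, inS k = true → inS (wval cK rW * k * (wval cK rW)⁻¹) = true) ∧
    (Finset.univ.filter fun k : Alt.K => (List.range 8).all (fun n => inS (k * toK n * k⁻¹)) = true).card = 24 := by
  decide +kernel

section

variable {G : Type u} [Group G]

/-- The twisted marking. -/
def twisted (H : Setup G) : Setup G := ⟨H.t, H.ht, H.e.trans twist⟩

theorem twisted_emb (H : Setup G) (k : Alt.K) : (twisted H).emb k = H.emb (twist.symm k) := rfl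

/-- Conjugation by `d` is linear in coordinates. -/
theorem conj_lin (H : Setup G) (d : G) {A B C : ℕ} (hA : d * H.emb (toK 1) * d⁻¹ = H.emb (toK A))
    (hB : d * H.emb (toK 2) * d⁻¹ = H.emb (toK B)) (hC : d * H.emb (toK 4) * d⁻¹ = H.emb (toK C))
    (hA8 : A < 8) (hB8 : B < 8) (hC8 : C < 8) :
    ∀ n < 8, lin A B C n < 8 ∧ d * H.emb (toK n) * d⁻¹ = H.emb (toK (lin A B C n)) := by
  have pick : ∀ (P : Prop) [Decidable P] (e I : ℕ), I < 8 → e < 8 →
      d * H.emb (toK e) * d⁻¹ = H.emb (toK I) →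
      (if P then I else 0) < 8 ∧ (if P then e else 0) < 8 ∧
        d * H.emb (toK (if P then e else 0)) * d⁻¹ = H.emb (toK (if P then I else 0)) := by
    intro P _ e I hI he h
    split
    · exact ⟨hI, he, h⟩
    · refine ⟨by norm_num, by norm_num, ?_⟩
      rw [show toK 0 = 1 by decide +kernel, map_one, mul_one, mul_inv_cancel]
  intro n hn
  obtain ⟨a1, a2, a3⟩ := pick (n % 2 = 1) 1 A hA8 (by norm_num) hA
  obtain ⟨b1, b2, b3⟩ := pick (n / 2 % 2 = 1) 2 B hB8 (by norm_num) hB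
  obtain ⟨c1, c2, c3⟩ := pick (n / 4 % 2 = 1) 4 C hC8 (by norm_num) hC
  obtain ⟨u1, u2⟩ := toK_hom _ a2 _ b2
  obtain ⟨v1, v2⟩ := toK_hom _ a1 _ b1
  obtain ⟨w1, -⟩ := toK_hom _ u2 _ c2
  obtain ⟨z1, z2⟩ := toK_hom _ v2 _ c1
  refine ⟨z2, ?_⟩
  conv_lhs => rw [(lin_eq n hn).2, w1, u1, map_mul, map_mul, conj_mul.symm, conj_mul.symm, a3, b3, c3]
  rw [← map_mul, ← map_mul, ← v1, ← z1]
  rfl

/-- The iterates. -/
theorem conj_itl (H : Setup G) (d : G) {A B C : ℕ}
    (hlin : ∀ n < 8, lin A B C n < 8 ∧ d * H.emb (toK n) * d⁻¹ = H.emb (toK (lin A B C n))) :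
    ∀ j, ∀ n < 8, itl A B C j n < 8 ∧ d ^ j * H.emb (toK n) * (d ^ j)⁻¹ = H.emb (toK (itl A B C j n))
  | 0, n, hn => ⟨hn, by simp [itl]⟩
  | j + 1, n, hn => by
    obtain ⟨h1, h2⟩ := conj_itl H d hlin j n hn
    obtain ⟨h3, h4⟩ := hlin _ h1
    refine ⟨h3, ?_⟩
    rw [show itl A B C (j + 1) n = lin A B C (itl A B C j n) from rfl, ← h4, ← h2, pow_succ']
    group

variable [Finite G]

theorem compat_of (H : Setup G) (d : G) (hd7 : d ^ 7 = 1) (hdne : d ≠ 1) {A B C k : ℕ}
    (hlin : ∀ n < 8, lin A B C n < 8 ∧ d * H.emb (toK n) * d⁻¹ = H.emb (toK (lin A B C n)))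
    (hr : H.emb (wval cK rW) * d * (H.emb (wval cK rW))⁻¹ = d ^ k) : compat A B C k = true := by
  haveI := Fact.mk (show Nat.Prime 7 by norm_num)
  have hdo : orderOf d = 7 := orderOf_eq_prime hd7 hdne
  have it := conj_itl H d hlin
  simp only [compat, Bool.and_eq_true, List.all_eq_true, List.mem_range]
  refine ⟨fun j hj => ?_, fun n hn => ⟨?_, ?_⟩⟩
  · rw [Bool.not_eq_true']
    refine Bool.eq_false_iff.2 fun h => ?_
    obtain ⟨-, h1⟩ := it (j + 1) 1 (by norm_num)
    rw [Nat.eq_of_beq_eq_true h, toK_facts.1, H.emb_τ] at h1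
    have hmem : d ^ (j + 1) ∈ H.C :=
      Subgroup.mem_centralizer_singleton_iff.2 (mul_inv_eq_iff_eq_mul.1 h1)
    have h2 : orderOf (⟨_, hmem⟩ : H.C) ∣ 120 := H.card_C ▸ orderOf_dvd_natCard _
    have hcop : Nat.Coprime (orderOf d) (j + 1) := by
      rw [hdo, (show Nat.Prime 7 by norm_num).coprime_iff_not_dvd]; omega
    rw [← Subgroup.orderOf_coe] at h2
    change orderOf (d ^ (j + 1)) ∣ 120 at h2
    rw [hcop.orderOf_pow, hdo] at h2
    norm_num at h2
  · obtain ⟨h1, h2⟩ := it 7 n hn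
    rw [hd7] at h2
    simp only [one_mul, inv_one, mul_one] at h2
    rw [← toK_inj n hn _ h1 (H.emb_injective h2)]
    exact Nat.beq_refl n
  · obtain ⟨h1, h2⟩ := hlin n hn
    obtain ⟨r1, r2, r3⟩ := toK_facts.2.2.2.2 _ h1
    obtain ⟨-, q2, q3⟩ := toK_facts.2.2.2.2 n hn
    obtain ⟨i1, i2⟩ := it k (rot n) q2
    have e : toK (rot (lin A B C n)) = toK (itl A B C k (rot n)) := H.emb_injective (by
      rw [← i2, ← q3, ← r3, map_mul, map_mul, map_inv, map_mul, map_mul, map_inv, ← h2, ← hr]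
      group)
    rw [toK_inj _ r2 _ i1 e]
    exact Nat.beq_refl _

variable [IsSimpleGroup G]

theorem exists_seven (H : Setup G) : ∃ (H' : Setup G) (d : G), d ^ 7 = 1 ∧ d ≠ 1 ∧
    (∀ n < 8, ∃ m < 8, d * H'.emb (toK n) * d⁻¹ = H'.emb (toK m)) ∧
    H'.emb (wval cK rW) * d * (H'.emb (wval cK rW))⁻¹ = d ^ 2 := by
  classical
  haveI := Fact.mk Nat.prime_two
  haveI h7 := Fact.mk (show Nat.Prime 7 by norm_num)
  haveI h3 := Fact.mk Nat.prime_three
  obtain ⟨S, hS⟩ := H.exists_sylow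
  have memS : ∀ g, g ∈ (S : Subgroup G) ↔ ∃ k, inS k = true ∧ H.emb k = g := by
    intro g; rw [hS]; exact Iff.rfl
  haveI : IsMulCommutative (S : Subgroup G) := ⟨⟨fun a b => by
    obtain ⟨x, hx, hxa⟩ := (memS _).1 a.2
    obtain ⟨y, hy, hyb⟩ := (memS _).1 b.2
    apply Subtype.ext
    show (a : G) * b = b * a
    rw [← hxa, ← hyb, ← map_mul, ← map_mul, (inS_mul x hx y hy).2.1]⟩⟩
  let N := Subgroup.normalizer ((S : Subgroup G) : Set G)
  have htS : H.t ∈ (S : Subgroup G) := (memS _).2 ⟨Alt.τ, by decide +kernel, H.emb_τ⟩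
  have hN7 : 7 ∣ Nat.card N ∧ Nat.card N = 168 := by
    let φN : N →* ConjAct G := (ConjAct.toConjAct (G := G)).toMonoidHom.comp N.subtype
    letI : MulAction N G := MulAction.compHom G φN
    have horb : MulAction.orbit N H.t = H.emb '' {k | inS k = true ∧ k ≠ 1} := by
      ext y
      constructor
      · rintro ⟨⟨n, hn⟩, rfl⟩
        obtain ⟨k, hk, he⟩ := (memS _).1 ((Subgroup.mem_normalizer_iff.1 hn H.t).1 htS)
        refine ⟨k, ⟨hk, fun h => H.t_ne ((conj_eq_one_iff (a := n) (b := H.t)).1 ?_)⟩, he⟩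
        rw [← he, h, map_one]
      · rintro ⟨k, ⟨hk, hk1⟩, rfl⟩
        have hc := H.isConj_invol k (inS_mul k hk k hk).2.2 hk1
        obtain ⟨g, hg⟩ := isConj_iff.1 hc
        obtain ⟨n, hn, he⟩ := S.conj_eq_normalizer_conj_of_mem H.t g⁻¹ htS
          (by rw [inv_inv, hg]; exact (memS _).2 ⟨k, hk, rfl⟩)
        refine ⟨⟨n⁻¹, inv_mem hn⟩, ?_⟩
        show n⁻¹ * H.t * n⁻¹⁻¹ = H.emb k
        rw [inv_inv, ← he, inv_inv, hg]
    have h7o : Nat.card (MulAction.orbit N H.t) = 7 := by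
      rw [horb, Nat.card_image_of_injective H.emb_injective]
      exact orbit_count
    have hst : Nat.card (MulAction.stabilizer N H.t) = 24 := by
      let ψ : {k : Alt.K // (List.range 8).all (fun n => inS (k * toK n * k⁻¹)) = true} → MulAction.stabilizer N H.t :=
        fun k => ⟨⟨H.emb k.1, by
          refine Subgroup.mem_normalizer_fintype fun g hg => ?_
          obtain ⟨y, hy, rfl⟩ := (memS g).1 hg
          obtain ⟨n, hn, rfl⟩ := toK_surj y hy
          exact (memS _).2 ⟨_, List.all_eq_true.1 k.2 n (List.mem_range.2 hn), by rw [map_mul, map_mul, map_inv]⟩⟩, by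
          show H.emb k.1 * H.t * (H.emb k.1)⁻¹ = H.t
          rw [H.commute_emb, mul_inv_cancel_right]⟩
      have hψ : Function.Bijective ψ := by
        constructor
        · intro a b h
          exact Subtype.ext (H.emb_injective (congrArg (fun z => ((z.1 : N) : G)) h))
        · rintro ⟨⟨g, hgN⟩, hg⟩
          have hgC : g ∈ H.C := Subgroup.mem_centralizer_singleton_iff.2 (mul_inv_eq_iff_eq_mul.1 hg)
          refine ⟨⟨H.e ⟨g, hgC⟩, List.all_eq_true.2 fun n hn' => ?_⟩, Subtype.ext (Subtype.ext (H.emb_e _))⟩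
          have hn := List.mem_range.1 hn'
          obtain ⟨y, hy, he⟩ := (memS _).1
            ((Subgroup.mem_normalizer_iff.1 hgN _).1 ((memS _).2 ⟨toK n, (toK_facts.2.2.2.2 n hn).1, rfl⟩))
          have : H.e ⟨g, hgC⟩ * toK n * (H.e ⟨g, hgC⟩)⁻¹ = y := H.emb_injective (by
            rw [map_mul, map_mul, map_inv, he, H.emb_e])
          rw [this]; exact hy
      rw [← Nat.card_eq_of_bijective ψ hψ, Nat.card_eq_fintype_card, Fintype.card_subtype]
      exact twist_facts.2.2.2.2.2.2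
    have := MulAction.orbitProdStabilizerEquivGroup N H.t
    have hcard := Nat.card_congr this
    rw [Nat.card_prod, h7o, hst] at hcard
    exact ⟨⟨24, hcard.symm⟩, hcard.symm⟩
  -- a Sylow 7-subgroup of the normalizer fixed by the element of order three
  set r := wval cK rW with hr
  have hrN : H.emb r ∈ N := Subgroup.mem_normalizer_fintype fun g hg => by
    obtain ⟨y, hy, rfl⟩ := (memS g).1 hg
    exact (memS _).2 ⟨_, twist_facts.2.2.2.2.2.1 y hy, by rw [map_mul, map_mul, map_inv]⟩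
  let r' : N := ⟨H.emb r, hrN⟩
  have hr3 : r' ^ 3 = 1 := Subtype.ext (by
    show H.emb r ^ 3 = 1
    rw [← map_pow, twist_facts.2.2.2.1, map_one])
  have hP3 : IsPGroup 3 (Subgroup.zpowers r') := by
    refine IsPGroup.of_card (n := 1) ?_
    rw [Nat.card_zpowers, pow_one]
    exact orderOf_eq_prime hr3 fun h => twist_facts.2.2.2.2.1 (H.emb_injective (by
      rw [map_one]; exact congrArg Subtype.val h))
  obtain ⟨P₀⟩ : Nonempty (Sylow 7 N) := inferInstance
  have hP0 : Nat.card (P₀ : Subgroup N) = 7 := by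
    rw [P₀.card_eq_multiplicity, hN7.2]
    rw [show (168 : ℕ).factorization 7 = 1 by
      rw [Nat.factorization_def _ h7.out]; decide +kernel, pow_one]
  have hn3 : ¬ 3 ∣ Nat.card (Sylow 7 N) := by
    have h1 := P₀.card_dvd_index
    have h2 := card_sylow_modEq_one 7 N
    have h3 : (P₀ : Subgroup N).index = 24 := by
      have := (P₀ : Subgroup N).card_mul_index
      rw [hP0, hN7.2] at this; omega
    rw [h3] at h1
    have hle := Nat.le_of_dvd (by norm_num) h1
    generalize Nat.card (Sylow 7 N) = m at h1 h2 hle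
    unfold Nat.ModEq at h2
    interval_cases m <;> omega
  obtain ⟨P, hP⟩ := hP3.nonempty_fixed_point_of_prime_not_dvd_card (Sylow 7 N) hn3
  have hPr : r' ∈ Subgroup.normalizer ((P : Subgroup N) : Set N) :=
    Sylow.smul_eq_iff_mem_normalizer.1 (hP ⟨r', Subgroup.mem_zpowers r'⟩)
  have hPc : Nat.card (P : Subgroup N) = 7 := by
    rw [P.card_eq_multiplicity]; exact P₀.card_eq_multiplicity.symm.trans hP0
  haveI : IsCyclic (P : Subgroup N) := isCyclic_of_prime_card hPc
  obtain ⟨⟨d', hd'⟩, hgen⟩ := IsCyclic.exists_generator (α := (P : Subgroup N))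
  have hdo : orderOf (d' : G) = 7 := by
    rw [Subgroup.orderOf_coe, ← Subgroup.orderOf_mk d' hd', orderOf_eq_card_of_forall_mem_zpowers hgen, hPc]
  obtain ⟨k, hk⟩ : ∃ k : ℕ, H.emb r * (d' : G) * (H.emb r)⁻¹ = (d' : G) ^ k := by
    have hm := (Subgroup.mem_normalizer_iff.1 hPr d').1 hd'
    obtain ⟨i, hi⟩ := Subgroup.mem_zpowers_iff.1 (hgen ⟨_, hm⟩)
    refine conj_eq_pow_of_mem (Subgroup.mem_zpowers_iff.2 ⟨i, ?_⟩)
    have := congrArg (fun z : (P : Subgroup N) => ((z : N) : G)) hi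
    simpa [r'] using this
  set d : G := (d' : G) with hd
  have hd7 : d ^ 7 = 1 := hdo ▸ pow_orderOf_eq_one d
  have hdne : d ≠ 1 := fun h => by rw [h, orderOf_one] at hdo; norm_num at hdo
  have hdS : ∀ n < 8, ∃ m < 8, d * H.emb (toK n) * d⁻¹ = H.emb (toK m) := by
    intro n hn
    obtain ⟨y, hy, he⟩ := (memS _).1
      ((Subgroup.mem_normalizer_iff.1 d'.2 _).1 ((memS _).2 ⟨toK n, (toK_facts.2.2.2.2 n hn).1, rfl⟩))
    obtain ⟨m, hm, rfl⟩ := toK_surj y hy
    exact ⟨m, hm, he.symm⟩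
  have hmod : d ^ k = d ^ (k % 7) := by
    conv_lhs => rw [← Nat.mod_add_div k 7, pow_add, pow_mul, hd7, one_pow, mul_one]
  have hiter : ∀ j, H.emb r ^ j * d * (H.emb r ^ j)⁻¹ = d ^ (k ^ j) := by
    intro j
    induction j with
    | zero => simp
    | succ j ih =>
      calc H.emb r ^ (j + 1) * d * (H.emb r ^ (j + 1))⁻¹
          = H.emb r * (H.emb r ^ j * d * (H.emb r ^ j)⁻¹) * (H.emb r)⁻¹ := by
            rw [pow_succ']; group
        _ = _ := by rw [ih, ← conj_pow, hk, ← pow_mul, pow_succ']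
  have hk3 : k ^ 3 % 7 = 1 := by
    have h := hiter 3
    rw [← map_pow, twist_facts.2.2.2.1, map_one] at h
    simp only [one_mul, inv_one, mul_one] at h
    have := hdo ▸ pow_eq_pow_iff_modEq.1 (h.symm.trans (pow_one d).symm)
    exact this
  have hk7 : k % 7 = 1 ∨ k % 7 = 2 ∨ k % 7 = 4 := by
    rw [Nat.pow_mod] at hk3
    have : k % 7 < 7 := Nat.mod_lt _ (by norm_num)
    interval_cases h : k % 7 <;> simp_all
  rw [hmod] at hk
  rcases hk7 with h | h | h
  · exfalso
    rw [h, pow_one] at hk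
    -- the element would commute with the rotation
    have hchoice : ∀ n, ∃ m, n < 8 → m < 8 ∧ d * H.emb (toK n) * d⁻¹ = H.emb (toK m) := fun n => by
      by_cases hn : n < 8
      · obtain ⟨m, hm, e⟩ := hdS n hn; exact ⟨m, fun _ => ⟨hm, e⟩⟩
      · exact ⟨0, fun h => absurd h hn⟩
    choose L hL using hchoice
    have hA := hL 1 (by norm_num); have hB := hL 2 (by norm_num); have hC := hL 4 (by norm_num)
    have hlin := conj_lin H d hA.2 hB.2 hC.2 hA.1 hB.1 hC.1
    have := compat_of H d hd7 hdne hlin (k := 1) (by rw [pow_one]; exact hk)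
    rw [(compat_facts _ hA.1 _ hB.1 _ hC.1).1] at this
    exact Bool.noConfusion this
  · exact ⟨H, d, hd7, hdne, hdS, by rw [h] at hk; exact hk⟩
  · refine ⟨twisted H, d, hd7, hdne, fun n hn => ?_, ?_⟩
    · obtain ⟨m, hm, e⟩ := toK_surj _ (twist_facts.2.1 _ (toK_facts.2.2.2.2 n hn).1)
      have hn' : twist.symm (toK n) = twist (toK n) := by
        rw [MulEquiv.symm_apply_eq, twist_facts.1]
      obtain ⟨q, hq, he⟩ := hdS m hm
      obtain ⟨p, hp, hpe⟩ := toK_surj _ (twist_facts.2.1 _ (toK_facts.2.2.2.2 q hq).1)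
      refine ⟨p, hp, ?_⟩
      rw [twisted_emb, twisted_emb, hn', ← e, he]
      congr 1
      rw [hpe, MulEquiv.symm_apply_apply]
    · have hs : twist.symm r = r⁻¹ := by
        rw [MulEquiv.symm_apply_eq, map_inv, hr, twist_facts.2.2.1, inv_inv]
      have hinv : r⁻¹ = r ^ 2 := inv_eq_of_mul_eq_one_left (by
        rw [← pow_succ, hr, twist_facts.2.2.2.1])
      rw [twisted_emb, hs, hinv, map_pow, hiter 2]
      have h16 : k ^ 2 ≡ 2 [MOD orderOf d] := by
        rw [hdo, Nat.ModEq, Nat.pow_mod, h]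
      exact pow_eq_pow_iff_modEq.2 h16

end

end Cfsg.Agent.J1Unique
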