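import Cfsg.Agent.Lib.J1Unique.GoodData

/-!
# Coset certificate check, a part
-/

set_option autoImplicit false
set_option linter.all false
set_option maxRecDepth 100000

namespace Cfsg.Agent.J1Unique.Good

open Cfsg.Agent.CosetCert (Tree)

theorem steps0_0 : allRange (stepOK table.C) 0 500 = true := by decide +kernel
theorem steps0_1 : allRange (stepOK table.C) 500 500 = true := by decide +kernel
theorem steps0_2 : allRange (stepOK table.C) 1000 500 = true := by decide +kernel
theorem steps0_3 : allRange (stepOK table.C) 1500 500 = true := by decide +kernel
theorem steps0_4 : allRange (stepOK table.C) 2000 500 = true := by decide +kernel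
theorem steps0_5 : allRange (stepOK table.C) 2500 500 = true := by decide +kernel
theorem steps0_6 : allRange (stepOK table.C) 3000 500 = true := by decide +kernel
theorem steps0_7 : allRange (stepOK table.C) 3500 500 = true := by decide +kernel
theorem steps0_8 : allRange (stepOK table.C) 4000 500 = true := by decide +kernel
theorem steps0_9 : allRange (stepOK table.C) 4500 500 = true := by decide +kernel
theorem steps0_10 : allRange (stepOK table.C) 5000 500 = true := by decide +kernel
theorem steps0_11 : allRange (stepOK table.C) 5500 500 = true := by decide +kernel
theorem steps0_12 : allRange (stepOK table.C) 6000 500 = true := by decide +kernel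
theorem steps0_13 : allRange (stepOK table.C) 6500 500 = true := by decide +kernel
theorem steps0_14 : allRange (stepOK table.C) 7000 500 = true := by decide +kernel
theorem steps0_15 : allRange (stepOK table.C) 7500 500 = true := by decide +kernel
theorem steps0_16 : allRange (stepOK table.C) 8000 500 = true := by decide +kernel
theorem steps0_17 : allRange (stepOK table.C) 8500 500 = true := by decide +kernel

theorem steps0 : ∀ i, 0 ≤ i → i < 9000 → stepOK table.C i = true :=
  fun i h h' => (allRange_append (allRange_append (allRange_append (allRange_append (allRange_append (allRange_append (allRange_append (allRange_append (allRange_append (allRange_append (allRange_append (allRange_append (allRange_append (allRange_append (allRange_append (allRange_append (allRange_append (allRange_spec _ _ steps0_0) steps0_1) steps0_2) steps0_3) steps0_4) steps0_5) steps0_6) steps0_7) steps0_8) steps0_9) steps0_10) steps0_11) steps0_12) steps0_13) steps0_14) steps0_15) steps0_16) steps0_17) i h h'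

end Cfsg.Agent.J1Unique.Good
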