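import Cfsg.Agent.Lib.J1Order.Local
import Cfsg.Agent.Lib.J1Unique.Check

/-!
# The relations

Letters: `0, 1, 2` are three reflections generating `C₂ × A₅`, `3` is an element `d` of order seven normalizing
the Sylow 2-subgroup and `4` is its inverse.
-/

set_option autoImplicit false
set_option linter.all false
set_option maxRecDepth 100000

namespace Cfsg.Agent.J1Unique

open Cfsg.Agent.J1Order

def cb : Alt.A5 :=
  ⟨Equiv.swap 1 3 * Equiv.swap 2 4, by rw [Equiv.Perm.mem_alternatingGroup]; decide +kernel⟩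

/-- The three reflections. -/
def cK : ℕ → Alt.K
  | 0 => (Multiplicative.ofAdd 1, a1)
  | 1 => (Multiplicative.ofAdd 1, cb)
  | 2 => (Multiplicative.ofAdd 1, a2)
  | _ => 1

def tW : List ℕ := [0, 1, 0, 1, 0, 2, 1, 0, 1, 0, 2, 1, 0, 1, 2]

def rW : List ℕ := [1, 0, 2, 1, 0, 1]

def winv : List ℕ → List ℕ
  | [] => []
  | y :: w => winv w ++ [cond (Nat.beq y 3) 4 (cond (Nat.beq y 4) 3 y)]

/-- The images of `τ` and of two reflections, and the two words of the commutation. -/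
structure Opt where
  iT : List ℕ
  i0 : List ℕ
  i2 : List ℕ
  x : List ℕ
  z : List ℕ

def rels (o : Opt) : List (List ℕ) :=
  [[], [0, 0], [1, 1], [2, 2], [3, 4], [4, 3], [0, 2, 0, 2], [1, 2, 1, 2, 1, 2],
    [0, 1, 0, 1, 0, 1, 0, 1, 0, 1], [3, 3, 3, 3, 3, 3, 3],
    [3] ++ tW ++ [4] ++ winv o.iT, [3] ++ [0] ++ [4] ++ winv o.i0, [3] ++ [2] ++ [4] ++ winv o.i2,
    rW ++ [3] ++ winv rW ++ [4, 4],
    o.x ++ ([3] ++ o.z ++ [4]) ++ winv o.x ++ winv ([3] ++ o.z ++ [4])]

/-- The first reflection of the pair of elements of order three. -/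
def xW : List ℕ := [1, 0, 1, 2, 1, 0, 1, 0]

def optGood : Opt :=
  ⟨[1, 0, 1, 0, 2, 1, 0, 1, 0, 2, 1, 0, 1, 2], [0, 2],
    [0, 1, 0, 1, 0, 2, 1, 0, 1, 0, 2, 1, 0, 1, 2], xW, [0, 1, 0, 1, 0, 2]⟩

def optA : Opt :=
  ⟨[1, 0, 1, 0, 2, 1, 0, 1, 0, 2, 1, 0, 1, 2], [0, 2],
    [0, 1, 0, 1, 0, 2, 1, 0, 1, 0, 2, 1, 0, 1, 2], xW, [2, 1, 0, 1]⟩

def optB : Opt :=
  ⟨[0], [2], [0, 1, 0, 1, 0, 2, 1, 0, 1, 0, 2, 1, 0, 1], xW, [0, 1, 0, 1, 0, 2, 1, 0, 1, 0, 2, 1]⟩

def optC : Opt :=
  ⟨[0], [2], [0, 1, 0, 1, 0, 2, 1, 0, 1, 0, 2, 1, 0, 1], xW, [0, 1, 0, 2, 1, 0, 1, 0, 2, 1, 0, 1]⟩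

/-- Whether `w` is a cyclic shift of a relator or of the inverse of one. -/
def coveredBy (B : List (List ℕ)) (w : List ℕ) : Bool :=
  B.any fun b => (List.range (b.length + 1)).any fun k =>
    decide (w = b.drop k ++ b.take k) || decide (w = (winv b).drop k ++ (winv b).take k)

def coversAll (B W : List (List ℕ)) : Bool := W.all (coveredBy B)

section

variable {G : Type*} [Group G] (a : ℕ → G)

/-- The letters are paired with their inverses. -/
structure Paired : Prop where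
  i0 : a 0 * a 0 = 1
  i1 : a 1 * a 1 = 1
  i2 : a 2 * a 2 = 1
  i34 : a 3 * a 4 = 1
  iout : ∀ y, 5 ≤ y → a y = 1

theorem Paired.inv {a : ℕ → G} (h : Paired a) :
    ∀ y, a (cond (Nat.beq y 3) 4 (cond (Nat.beq y 4) 3 y)) = (a y)⁻¹
  | 0 => (inv_eq_of_mul_eq_one_left h.i0).symm
  | 1 => (inv_eq_of_mul_eq_one_left h.i1).symm
  | 2 => (inv_eq_of_mul_eq_one_left h.i2).symm
  | 3 => (inv_eq_of_mul_eq_one_right h.i34).symm
  | 4 => (inv_eq_of_mul_eq_one_left h.i34).symm
  | n + 5 => by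
    show a (n + 5) = (a (n + 5))⁻¹
    rw [h.iout (n + 5) (by omega), inv_one]

theorem wval_winv {a : ℕ → G} (h : Paired a) : ∀ w : List ℕ, wval a (winv w) = (wval a w)⁻¹
  | [] => by simp [winv, wval]
  | y :: w => by rw [winv, wval_append, wval_winv h w, wval, wval, wval, mul_one, mul_inv_rev, h.inv]

theorem wval_rot {u v : List ℕ} (h : wval a (u ++ v) = 1) : wval a (v ++ u) = 1 := by
  rw [wval_append] at h ⊢
  exact mul_eq_one_comm.1 h

theorem rels_of_covers {a : ℕ → G} (hp : Paired a) {B W : List (List ℕ)}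
    (hB : ∀ b ∈ B, wval a b = 1) (h : coversAll B W = true) : ∀ w ∈ W, wval a w = 1 := by
  intro w hw
  simp only [coversAll, List.all_eq_true] at h
  have hc := h w hw
  simp only [coveredBy, List.any_eq_true, Bool.or_eq_true, decide_eq_true_eq] at hc
  obtain ⟨b, hb, k, -, hk⟩ := hc
  rcases hk with rfl | rfl
  · exact wval_rot a (by rw [List.take_append_drop]; exact hB b hb)
  · refine wval_rot a ?_
    rw [List.take_append_drop, wval_winv hp, hB b hb, inv_one]

end

/-- The letters attached to a homomorphism from `C₂ × A₅` and an element. -/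
def gens {G : Type*} [Group G] (f : Alt.K →* G) (d : G) : ℕ → G
  | 3 => d
  | 4 => d⁻¹
  | y => f (cK y)

theorem paired_gens {G : Type*} [Group G] (f : Alt.K →* G) (d : G) : Paired (gens f d) where
  i0 := by show f (cK 0) * f (cK 0) = 1; rw [← map_mul, show cK 0 * cK 0 = 1 by decide +kernel, map_one]
  i1 := by show f (cK 1) * f (cK 1) = 1; rw [← map_mul, show cK 1 * cK 1 = 1 by decide +kernel, map_one]
  i2 := by show f (cK 2) * f (cK 2) = 1; rw [← map_mul, show cK 2 * cK 2 = 1 by decide +kernel, map_one]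
  i34 := mul_inv_cancel d
  iout := fun y hy => by
    obtain ⟨n, rfl⟩ : ∃ n, y = n + 5 := ⟨y - 5, by omega⟩
    exact map_one f

theorem wval_gens {G : Type*} [Group G] (f : Alt.K →* G) (d : G) :
    ∀ {w : List ℕ}, w.all (fun y => Nat.blt y 3) = true → wval (gens f d) w = f (wval cK w)
  | [], _ => (map_one f).symm
  | y :: w, h => by
    simp only [List.all_cons, Bool.and_eq_true] at h
    have hy : y < 3 := Nat.le_of_ble_eq_true h.1
    rw [wval, wval, map_mul, wval_gens f d h.2]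
    match y, hy with
    | 0, _ => rfl
    | 1, _ => rfl
    | 2, _ => rfl

/-- What the words of an option evaluate to. -/
structure OptVal (o : Opt) (iT i0 i2 x z : Alt.K) : Prop where
  ok : (o.iT.all (fun y => Nat.blt y 3) && o.i0.all (fun y => Nat.blt y 3) &&
    o.i2.all (fun y => Nat.blt y 3) && o.x.all (fun y => Nat.blt y 3) &&
    o.z.all (fun y => Nat.blt y 3)) = true
  eT : wval cK o.iT = iT
  e0 : wval cK o.i0 = i0
  e2 : wval cK o.i2 = i2
  ex : wval cK o.x = x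
  ez : wval cK o.z = z

theorem K_words : wval cK tW = Alt.τ ∧ wval cK [0, 2, 0, 2] = 1 ∧ wval cK [1, 2, 1, 2, 1, 2] = 1 ∧
    wval cK [0, 1, 0, 1, 0, 1, 0, 1, 0, 1] = 1 := by decide +kernel

/-- The relations hold once the five conditions on `d` do. -/
theorem rels_hold {G : Type*} [Group G] (f : Alt.K →* G) (d : G) {o : Opt} {iT i0 i2 x z : Alt.K}
    (ho : OptVal o iT i0 i2 x z) (h7 : d ^ 7 = 1) (hT : d * f Alt.τ * d⁻¹ = f iT)
    (h0 : d * f (cK 0) * d⁻¹ = f i0) (h2 : d * f (cK 2) * d⁻¹ = f i2)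
    (hr : f (wval cK rW) * d * (f (wval cK rW))⁻¹ = d ^ 2)
    (hxz : f x * (d * f z * d⁻¹) = (d * f z * d⁻¹) * f x) :
    ∀ w ∈ rels o, wval (gens f d) w = 1 := by
  have hp := paired_gens f d
  have hok := ho.ok
  simp only [Bool.and_eq_true] at hok
  obtain ⟨⟨⟨⟨k1, k2⟩, k3⟩, k4⟩, k5⟩ := hok
  obtain ⟨-, e1, e2, e3, e4, e5⟩ := ho
  have g3 : gens f d 3 = d := rfl
  have g4 : gens f d 4 = d⁻¹ := rfl
  obtain ⟨w1, w2, w3, w4⟩ := K_words
  intro w hw
  simp only [rels, List.mem_cons, List.not_mem_nil, or_false] at hw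
  rcases hw with rfl | rfl | rfl | rfl | rfl | rfl | rfl | rfl | rfl | rfl | rfl | rfl | rfl | rfl | rfl
  · rfl
  · simp [wval, hp.i0]
  · simp [wval, hp.i1]
  · simp [wval, hp.i2]
  · simp [wval, hp.i34]
  · simp [wval, g3, g4]
  · rw [wval_gens f d (by decide +kernel), w2, map_one]
  · rw [wval_gens f d (by decide +kernel), w3, map_one]
  · rw [wval_gens f d (by decide +kernel), w4, map_one]
  · simp only [wval, g3, mul_one]
    rw [← h7]; simp [pow_succ, mul_assoc]
  · simp only [wval_append, wval, g3, g4, mul_one, wval_winv hp]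
    rw [wval_gens f d (w := tW) (by decide +kernel), wval_gens f d k1, e1, w1, hT, mul_inv_cancel]
  · simp only [wval_append, wval, g3, g4, mul_one, wval_winv hp]
    rw [wval_gens f d k2, e2, show gens f d 0 = f (cK 0) from rfl, h0, mul_inv_cancel]
  · simp only [wval_append, wval, g3, g4, mul_one, wval_winv hp]
    rw [wval_gens f d k3, e3, show gens f d 2 = f (cK 2) from rfl, h2, mul_inv_cancel]
  · simp only [wval_append, wval, g3, g4, mul_one, wval_winv hp]
    rw [wval_gens f d (w := rW) (by decide +kernel), hr]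
    group
  · simp only [wval_append, wval, g3, g4, mul_one, wval_winv hp]
    rw [wval_gens f d k4, wval_gens f d k5, e4, e5, hxz]
    group

end Cfsg.Agent.J1Unique
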