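import Cfsg.Agent.Lib.J1Order.Main
import Cfsg.Agent.Lib.J1Unique.Rel

/-!
# The normalizer of a Sylow 2-subgroup and the centralizer of an element of order three
-/

set_option autoImplicit false
set_option linter.all false
set_option maxRecDepth 100000

namespace Cfsg.Agent.J1Unique

open Cfsg.Agent.J1Order

universe u

/-- Two commuting involutions of a finite set of odd size have a common fixed point. -/
theorem common_fixed {α : Type*} [Finite α] (hodd : ¬ 2 ∣ Nat.card α) (f g : α → α)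
    (hf : ∀ a, f (f a) = a) (hg : ∀ a, g (g a) = a) (hfg : ∀ a, f (g a) = g (f a)) :
    ∃ a, f a = a ∧ g a = a := by
  classical
  haveI := Fintype.ofFinite α
  haveI := Fact.mk Nat.prime_two
  let σ : Equiv.Perm α := Function.Involutive.toPerm f hf
  have hσ : σ ^ 2 ^ 1 = 1 := by
    ext a; rw [pow_one, sq]; exact hf a
  have hF : ¬ 2 ∣ Fintype.card {a : α // f a = a} := by
    have h1 := Equiv.Perm.card_compl_support_modEq hσ
    have h2 : σ.supportᶜ.card = Fintype.card {a : α // f a = a} := by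
      rw [Fintype.card_of_subtype]
      intro a
      simp only [Finset.mem_compl, Equiv.Perm.mem_support, not_not]
      rfl
    rw [h2, ← Nat.card_eq_fintype_card (α := α)] at h1
    intro h
    exact hodd ((Nat.ModEq.dvd_iff h1 dvd_rfl).1 h)
  let τ : Equiv.Perm {a : α // f a = a} :=
    Function.Involutive.toPerm (fun a => ⟨g a.1, by rw [hfg, a.2]⟩) (fun a => Subtype.ext (hg a.1))
  have hτ : τ ^ 2 ^ 1 = 1 := by
    ext a; rw [pow_one, sq]; exact hg a.1
  obtain ⟨a, ha⟩ := Equiv.Perm.exists_fixed_point_of_prime hF hτ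
  exact ⟨a.1, a.2, congrArg Subtype.val ha⟩

theorem conj_eq_pow_of_mem {G : Type*} [Group G] [Finite G] {y z : G} (h : z ∈ Subgroup.zpowers y) :
    ∃ i : ℕ, z = y ^ i := by
  obtain ⟨i, hi⟩ := mem_powers_iff_mem_zpowers.2 h
  exact ⟨i, hi.symm⟩

/-- An involution stabilizing a subgroup of prime order centralizes or inverts it. -/
theorem comm_or_inv {G : Type*} [Group G] {u y : G} {p i : ℕ} [Fact p.Prime] (hu : u * u = 1)
    (hy : orderOf y = p) (h : u * y * u⁻¹ = y ^ i) : u * y * u⁻¹ = y ∨ u * y * u⁻¹ = y⁻¹ := by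
  have h2 : y ^ (i * i) = y := by
    rw [pow_mul, ← h, conj_pow, ← h]
    have : u⁻¹ = u := inv_eq_of_mul_eq_one_left hu
    rw [this]; simp [mul_assoc, hu]; rw [← mul_assoc u u, hu, one_mul]
  have h3 : ((i : ZMod p)) * i = 1 := by
    have h4 : i * i ≡ 1 [MOD p] := hy ▸ pow_eq_pow_iff_modEq.1 (h2.trans (pow_one y).symm)
    have := (ZMod.natCast_eq_natCast_iff _ _ _).2 h4
    simpa using this
  rcases mul_self_eq_one_iff.1 h3 with h5 | h5
  · left
    rw [h]
    conv_rhs => rw [← pow_one y]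
    exact pow_eq_pow_iff_modEq.2 (hy.symm ▸ (ZMod.natCast_eq_natCast_iff _ _ _).1 (by simpa using h5))
  · right
    rw [h, eq_inv_iff_mul_eq_one, ← pow_succ, ← orderOf_dvd_iff_pow_eq_one, hy,
      ← ZMod.natCast_eq_zero_iff]; push_cast; rw [h5]; ring

/-- An element of prime order in the centralizer of `x`, stable under two commuting involutions. -/
theorem exists_stable {G : Type*} [Group G] [Finite G] {x t v : G} (ht : t * t = 1) (hv : v * v = 1)
    (htv : t * v = v * t) (ht1 : t ≠ 1) (htx : t * x * t⁻¹ = x) (hvx : v * x * v⁻¹ = x⁻¹)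
    (h4 : ¬ 4 ∣ Nat.card (Subgroup.centralizer ({x} : Set G))) {p : ℕ} [Fact p.Prime]
    (hp : p ∣ Nat.card (Subgroup.centralizer ({x} : Set G))) (hp2 : p ≠ 2)
    (hsq : ¬ p * p ∣ Nat.card G) :
    ∃ y : G, orderOf y = p ∧ x * y = y * x ∧ (t * y * t⁻¹ = y ∨ t * y * t⁻¹ = y⁻¹) ∧
      (v * y * v⁻¹ = y ∨ v * y * v⁻¹ = y⁻¹) := by
  classical
  haveI := Fact.mk Nat.prime_two
  set X : Subgroup G := Subgroup.centralizer ({x} : Set G) with hX
  have memX : ∀ g, g ∈ X ↔ g * x = x * g := fun g => Subgroup.mem_centralizer_singleton_iff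
  have htX : t ∈ X := (memX t).2 (mul_inv_eq_iff_eq_mul.1 htx)
  let t' : X := ⟨t, htX⟩
  have h2 : 2 ∣ Nat.card X := by
    have : orderOf t' = 2 := orderOf_eq_prime (Subtype.ext (by simp [t', sq, ht]))
      (fun h => ht1 (congrArg Subtype.val h))
    exact this ▸ orderOf_dvd_natCard t'
  obtain ⟨P⟩ : Nonempty (Sylow 2 X) := inferInstance
  have hP : Nat.card (P : Subgroup X) = 2 := by
    rw [P.card_eq_multiplicity]
    have h1 : (Nat.card X).factorization 2 = 1 := by
      refine le_antisymm ?_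
        ((Nat.prime_two.pow_dvd_iff_le_factorization (k := 1) Nat.card_pos.ne').1 (by simpa using h2))
      by_contra hc
      exact h4 ((Nat.prime_two.pow_dvd_iff_le_factorization (k := 2) Nat.card_pos.ne').2 (by omega))
    rw [h1, pow_one]
  have hcyc : IsCyclic (P : Subgroup X) := isCyclic_of_prime_card hP
  have hmin : (Nat.card X).minFac = 2 := (Nat.minFac_eq_two_iff _).2 h2
  set M := (MonoidHom.transferSylow P (hcyc.normalizer_le_centralizer hmin)).ker with hM
  have hMP : M.IsComplement' (P : Subgroup X) := hcyc.isComplement' hmin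
  have hMi : M.index = 2 := (Subgroup.IsComplement'.symm hMP).index_eq_card.trans hP
  have hModd : Odd (Nat.card M) := by
    rw [Nat.odd_iff]
    have := M.card_mul_index
    rw [hMi] at this
    by_contra hc
    exact h4 ⟨Nat.card M / 2, by omega⟩
  have memM : ∀ g : X, g ∈ M ↔ Odd (orderOf (g : G)) := by
    intro g
    rw [Subgroup.orderOf_coe]
    constructor
    · intro hg
      refine Odd.of_dvd_nat hModd ?_
      rw [← Subgroup.orderOf_mk g hg]
      exact orderOf_dvd_natCard _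
    · intro hg
      have h1 : orderOf (g : X ⧸ M) ∣ 2 := by
        have := orderOf_dvd_natCard (g : X ⧸ M)
        rwa [← Subgroup.index_eq_card, hMi] at this
      have h2 : orderOf (g : X ⧸ M) ∣ orderOf g := orderOf_map_dvd (QuotientGroup.mk' M) g
      have h3 : orderOf (g : X ⧸ M) = 1 := by
        rcases (Nat.dvd_prime Nat.prime_two).1 h1 with h | h
        · exact h
        · rw [h] at h2
          rw [Nat.odd_iff] at hg
          omega
      exact (QuotientGroup.eq_one_iff g).1 (orderOf_eq_one_iff.1 h3)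
  have hpM : p ∣ Nat.card M := by
    have := M.card_mul_index
    rw [hMi] at this
    exact (((Nat.coprime_primes Fact.out Nat.prime_two).2 hp2).dvd_of_dvd_mul_right (this ▸ hp))
  -- the subgroups of order `p` of the odd part
  let Ω := {Q : Subgroup G // Nat.card Q = p ∧ ∀ g ∈ Q, g * x = x * g ∧ Odd (orderOf g)}
  have hpv : (Nat.card M).factorization p = 1 := by
    refine le_antisymm ?_ ((Fact.out : p.Prime).pow_dvd_iff_le_factorization (k := 1) Nat.card_pos.ne'
      |>.1 (by simpa using hpM))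
    by_contra hc
    refine hsq ?_
    have := ((Fact.out : p.Prime).pow_dvd_iff_le_factorization (k := 2) Nat.card_pos.ne').2
      (show 2 ≤ (Nat.card M).factorization p by omega)
    rw [sq] at this
    exact this.trans ((Subgroup.card_subgroup_dvd_card M).trans (Subgroup.card_subgroup_dvd_card X))
  let ι : M →* G := X.subtype.comp M.subtype
  have hι : Function.Injective ι := X.subtype_injective.comp M.subtype_injective
  let F : Sylow p M → Ω := fun Q => ⟨(Q : Subgroup M).map ι, by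
    rw [Subgroup.card_map_of_injective hι, Q.card_eq_multiplicity, hpv, pow_one], by
    rintro g ⟨m, -, rfl⟩
    exact ⟨(memX _).1 m.1.2, (memM m.1).1 m.2⟩⟩
  have hF : Function.Bijective F := by
    constructor
    · intro Q Q' h
      exact Sylow.ext (Subgroup.map_injective hι (congrArg Subtype.val h))
    · rintro ⟨Q, hQ, hQ'⟩
      have hle : Q ≤ ι.range := fun g hg =>
        ⟨⟨⟨g, (memX g).2 (hQ' g hg).1⟩, (memM _).2 (hQ' g hg).2⟩, rfl⟩
      have hc : Nat.card (Q.comap ι) = p := by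
        rw [← Subgroup.card_map_of_injective hι, Subgroup.map_comap_eq_self hle, hQ]
      refine ⟨Sylow.ofCard (Q.comap ι) (by rw [hc, hpv, pow_one]), Subtype.ext ?_⟩
      show (Sylow.ofCard (Q.comap ι) _ : Subgroup M).map ι = Q
      rw [Sylow.coe_ofCard, Subgroup.map_comap_eq_self hle]
  have hΩ : ¬ 2 ∣ Nat.card Ω := by
    rw [← Nat.card_eq_of_bijective F hF]
    obtain ⟨Q⟩ : Nonempty (Sylow p M) := inferInstance
    intro h
    have h1 := h.trans (Q.card_dvd_index.trans (Q : Subgroup M).index_dvd_card)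
    rw [Nat.odd_iff] at hModd
    omega
  have stab : ∀ u : G, u * u = 1 → (∀ g, g * x = x * g → (u * g * u⁻¹) * x = x * (u * g * u⁻¹)) →
      ∀ Q : Ω, Nat.card (Q.1.map (MulAut.conj u).toMonoidHom) = p ∧
        ∀ g ∈ Q.1.map (MulAut.conj u).toMonoidHom, g * x = x * g ∧ Odd (orderOf g) := by
    intro u hu hux Q
    refine ⟨(Subgroup.card_map_of_injective (MulAut.conj u).injective).trans Q.2.1, ?_⟩
    rintro g ⟨q, hq, rfl⟩
    refine ⟨?_, ?_⟩
    · simpa using hux q (Q.2.2 q hq).1
    · exact (MulEquiv.orderOf_eq (MulAut.conj u) q).symm ▸ (Q.2.2 q hq).2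
  have htc : ∀ g, g * x = x * g → (t * g * t⁻¹) * x = x * (t * g * t⁻¹) := fun g hg => by
    calc (t * g * t⁻¹) * x = t * g * (t⁻¹ * x * t) * t⁻¹ := by group
      _ = t * (g * x) * t⁻¹ := by
        rw [show t⁻¹ * x * t = x by
          rw [mul_assoc, ← mul_inv_eq_iff_eq_mul.1 htx, inv_mul_cancel_left]]
        group
      _ = t * (x * g) * t⁻¹ := by rw [hg]
      _ = (t * x * t⁻¹) * (t * g * t⁻¹) := by group
      _ = _ := by rw [htx]
  have hvc : ∀ g, g * x = x * g → (v * g * v⁻¹) * x = x * (v * g * v⁻¹) := fun g hg => by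
    have h1 : g * x⁻¹ = x⁻¹ * g := Commute.inv_right hg
    have h2 : x = v * x⁻¹ * v⁻¹ := by
      simpa [mul_inv_rev, mul_assoc] using (congrArg (·⁻¹) hvx).symm
    calc (v * g * v⁻¹) * x = v * g * v⁻¹ * (v * x⁻¹ * v⁻¹) := by rw [← h2]
      _ = v * (g * x⁻¹) * v⁻¹ := by group
      _ = v * (x⁻¹ * g) * v⁻¹ := by rw [h1]
      _ = (v * x⁻¹ * v⁻¹) * (v * g * v⁻¹) := by group
      _ = _ := by rw [← h2]
  have hmap : ∀ (u w : G) (Q : Subgroup G), (Q.map (MulAut.conj w).toMonoidHom).map (MulAut.conj u).toMonoidHom =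
      Q.map (MulAut.conj (u * w)).toMonoidHom := fun u w Q => by
    rw [Subgroup.map_map]; congr 1; ext g; simp [mul_assoc]
  have hone : ∀ (Q : Subgroup G), Q.map (MulAut.conj (1 : G)).toMonoidHom = Q := fun Q => by
    ext g; simp
  obtain ⟨Q, hQt, hQv⟩ := common_fixed hΩ (fun Q => ⟨_, stab t ht htc Q⟩) (fun Q => ⟨_, stab v hv hvc Q⟩)
    (fun Q => Subtype.ext (by show (Q.1.map _).map _ = Q.1; rw [hmap, ht, hone]))
    (fun Q => Subtype.ext (by show (Q.1.map _).map _ = Q.1; rw [hmap, hv, hone]))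
    (fun Q => Subtype.ext (by show (Q.1.map _).map _ = (Q.1.map _).map _; rw [hmap, hmap, htv]))
  haveI : IsCyclic Q.1 := isCyclic_of_prime_card Q.2.1
  obtain ⟨⟨y, hy⟩, hgen⟩ := IsCyclic.exists_generator (α := Q.1)
  have hQy : Q.1 = Subgroup.zpowers y := by
    refine le_antisymm (fun g hg => ?_) (Subgroup.zpowers_le.2 hy)
    obtain ⟨i, hi⟩ := Subgroup.mem_zpowers_iff.1 (hgen ⟨g, hg⟩)
    exact Subgroup.mem_zpowers_iff.2 ⟨i, congrArg Subtype.val hi⟩
  have hyo : orderOf y = p := by rw [← Nat.card_zpowers, ← hQy, Q.2.1]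
  have key : ∀ u : G, u * u = 1 → Q.1.map (MulAut.conj u).toMonoidHom = Q.1 →
      u * y * u⁻¹ = y ∨ u * y * u⁻¹ = y⁻¹ := fun u hu hfix => by
    have : u * y * u⁻¹ ∈ Subgroup.zpowers y := hQy ▸ hfix ▸ ⟨y, hy, by simp⟩
    obtain ⟨i, hi⟩ := conj_eq_pow_of_mem this
    exact comm_or_inv hu hyo hi
  exact ⟨y, hyo, ((Q.2.2 y hy).1).symm, key t ht (congrArg Subtype.val hQt),
    key v hv (congrArg Subtype.val hQv)⟩

end Cfsg.Agent.J1Unique
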