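import Cfsg.Agent.Lib.J1Unique.Check

/-!
# Coset certificate data
-/

set_option autoImplicit false
set_option linter.all false
set_option maxRecDepth 100000

namespace Cfsg.Agent.J1Unique.Small

open Cfsg.Agent.CosetCert (Tree)

noncomputable def facts0 : Tree :=
  (.node 90 (.node 45 (.node 22 (.node 11 (.node 5 (.node 2 (.node 1 (.leaf (nat_lit 0x4000000000000100000)) (.leaf (nat_lit 0x8000000010000200000))) (.node 1 (.leaf (nat_lit 0xc000000020000300000)) (.node 1 (.leaf (nat_lit 0x10000000020000400001)) (.leaf (nat_lit 0xc000000000800014020040d00000300004))))) (.node 3 (.node 1 (.leaf (nat_lit 0x14000000020000500002)) (.node 1 (.leaf (nat_lit 0x18000000010000600005)) (.leaf (nat_lit 0x1c000000020000700006)))) (.node 1 (.leaf (nat_lit 0x1c0001800014000040000800020040041110000300007)) (.node 1 (.leaf (nat_lit 0x20000000010000800001)) (.leaf (nat_lit 0x24000000000000900008)))))) (.node 5 (.node 2 (.node 1 (.leaf (nat_lit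 0x28000000010000a00009)) (.leaf (nat_lit 0x2c000000000000b0000a))) (.node 1 (.leaf (nat_lit 0x30000000010000c0000b)) (.node 1 (.leaf (nat_lit 0x34000000000000d0000c)) (.leaf (nat_lit 0x38000000010000e0000d))))) (.node 3 (.node 1 (.leaf (nat_lit 0x3c0003800034000300002c000280002400000000040003c08004150000020000e)) (.node 1 (.leaf (nat_lit 0x3c000000020000f00008)) (.leaf (nat_lit 0x4000000001000100000f)))) (.node 1 (.leaf (nat_lit 0x44000000020001100010)) (.node 1 (.leaf (nat_lit 0x4c0004800044000240000c00048040041110000400011)) (.leaf (nat_lit 0x4800000002000120000e))))))) (.node 11 (.node 5 (.node 2 (.node 1 (.leaf (nat_lit 0x5400040000140004c020040d00000500012)) (.leaf (nat_lit 0x4c000000000001300011))) (.node 1 (.leaf (nat_lit 0x50000000010001400013)) (.node 1 (.leaf (nat_lit 0x54000000000001500014)) (.leaf (nat_lit 0x58000000010001600015))))) (.node 3 (.node 1 (.leaf (nat_lit 0x5c000000000001700016)) (.node 1 (.leaf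 (nat_lit 0x60000000010001800017)) (.leaf (nat_lit 0x700006c0006800064000600005c00050000100002000064080041500000700018)))) (.node 1 (.leaf (nat_lit 0x64000000010001900012)) (.node 1 (.leaf (nat_lit 0x68000000000001a00019)) (.leaf (nat_lit 0x6c000000010001b0001a)))))) (.node 6 (.node 3 (.node 1 (.leaf (nat_lit 0x70000000000001c0001b)) (.node 1 (.leaf (nat_lit 0x74000000010001d0001c)) (.leaf (nat_lit 0x78000000000001e0001d)))) (.node 1 (.leaf (nat_lit 0x7c000000010001f0001e)) (.node 1 (.leaf (nat_lit 0x900008c0008800084000800007c0007800058000180008008004150000060001f)) (.leaf (nat_lit 0x940001c0007400080010080d2000180001f))))) (.node 3 (.node 1 (.leaf (nat_lit 0x80000000020002000009)) (.node 1 (.leaf (nat_lit 0x9c000280004400084020040d00000f00020)) (.leaf (nat_lit 0x8400000002000210000a)))) (.node 1 (.leaf (nat_lit 0x88000000010002200021)) (.node 1 (.leaf (nat_lit 0x8c000000020002300022)) (.leaf (nat_lit 0xac000a8000a40002c0009c00090040041110002000023))))))))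 (.node 22 (.node 11 (.node 5 (.node 2 (.node 1 (.leaf (nat_lit 0x9000000002000240000b)) (.leaf (nat_lit 0xb400030000a400094020040d00002100024))) (.node 1 (.leaf (nat_lit 0x9400000002000250000c)) (.node 1 (.leaf (nat_lit 0x98000000010002600025)) (.leaf (nat_lit 0x9c000000020002700026))))) (.node 3 (.node 1 (.leaf (nat_lit 0xc4000c0000bc00034000b4000a0040041110002400027)) (.node 1 (.leaf (nat_lit 0xa000000002000280000d)) (.leaf (nat_lit 0xcc00038000bc000a4020040d00002500028)))) (.node 1 (.leaf (nat_lit 0xa4000000020002900019)) (.node 1 (.leaf (nat_lit 0xd400078000540003c000cc000a8040041110002800029)) (.leaf (nat_lit 0xa8000000000002a00023)))))) (.node 5 (.node 2 (.node 1 (.leaf (nat_lit 0xac000000010002b0002a)) (.leaf (nat_lit 0xb0000000000002c0002b))) (.node 1 (.leaf (nat_lit 0xb4000000010002d0002c)) (.node 1 (.leaf (nat_lit 0xb8000000000002e0002d)) (.leaf (nat_lit 0xbc000000010002f0002e))))) (.node 3 (.node 1 (.leaf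 (nat_lit 0xf0000ec000e8000e4000e0000dc000b0000a000048000c008004150000100002f)) (.node 1 (.leaf (nat_lit 0xf40004c0005c000c0010080d2000130002f)) (.leaf (nat_lit 0xc0000000020003000014)))) (.node 1 (.leaf (nat_lit 0xc4000000010003100030)) (.node 1 (.leaf (nat_lit 0x100000fc00060000f8000f0000c8030081120002e00031)) (.leaf (nat_lit 0xc8000000020003200015))))))) (.node 11 (.node 5 (.node 2 (.node 1 (.leaf (nat_lit 0x10800064000fc000cc020040d00003000032)) (.leaf (nat_lit 0xcc000000020003300016))) (.node 1 (.leaf (nat_lit 0xd0000000010003400033)) (.node 1 (.leaf (nat_lit 0xd4000000020003500034)) (.leaf (nat_lit 0x11800114001100006800108000d8040041110003200035))))) (.node 3 (.node 1 (.leaf (nat_lit 0xd8000000020003600017)) (.node 1 (.leaf (nat_lit 0x1200006c00110000dc020040d00003300036)) (.leaf (nat_lit 0xdc00000002000370001e)))) (.node 1 (.leaf (nat_lit 0x12800090000980007000120000e0040041110003600037)) (.node 1 (.leaf (nat_lit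 0xe000000002000380001a)) (.leaf (nat_lit 0x1300007c000d4000e4020040d00002900038)))))) (.node 6 (.node 3 (.node 1 (.leaf (nat_lit 0xe400000002000390001b)) (.node 1 (.leaf (nat_lit 0xe8000000010003a00039)) (.leaf (nat_lit 0xec000000020003b0003a)))) (.node 1 (.leaf (nat_lit 0x1400013c001380008000130000f004004111000380003b)) (.node 1 (.leaf (nat_lit 0xf0000000020003c0001c)) (.leaf (nat_lit 0x1480008400138000f4020040d0000390003c))))) (.node 3 (.node 1 (.leaf (nat_lit 0xf4000000020003d0001d)) (.node 1 (.leaf (nat_lit 0xf8000000010003e0003d)) (.leaf (nat_lit 0xfc000000020003f0003e)))) (.node 1 (.leaf (nat_lit 0x1580015400150000880014800100040041110003c0003f)) (.node 1 (.leaf (nat_lit 0x1280008c0015000100020040d00003d00037)) (.leaf (nat_lit 0x100000000000004000027))))))))) (.node 45 (.node 22 (.node 11 (.node 5 (.node 2 (.node 1 (.leaf (nat_lit 0x104000000010004100040)) (.leaf (nat_lit 0x108000000000004200041))) (.node 1 (.leaf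 (nat_lit 0x10c000000010004300042)) (.node 1 (.leaf (nat_lit 0x110000000000004400043)) (.leaf (nat_lit 0x114000000010004500044))))) (.node 3 (.node 1 (.leaf (nat_lit 0x17800174001700016c0016800164000c8000b8000a800118080041500002200045)) (.node 1 (.leaf (nat_lit 0x17c000ac000dc00118010080d20002a00045)) (.leaf (nat_lit 0x11800000000000460003b)))) (.node 1 (.leaf (nat_lit 0x11c000000010004700046)) (.node 1 (.leaf (nat_lit 0x120000000000004800047)) (.leaf (nat_lit 0x124000000010004900048)))))) (.node 5 (.node 2 (.node 1 (.leaf (nat_lit 0x1900018c00188001840014400134000d8000d0000c000128080041500002600049)) (.leaf (nat_lit 0x194000c40016400128010080d20004000049))) (.node 1 (.leaf (nat_lit 0x128000000020004a0002b)) (.node 1 (.leaf (nat_lit 0x12c000000010004b0004a)) (.leaf (nat_lit 0x1a00019c000e000180001780013003008112000440004b))))) (.node 3 (.node 1 (.leaf (nat_lit 0x130000000020004c0002c)) (.node 1 (.leaf (nat_lit 0x1a8000e40019c00134020040d00004a0004c))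 (.leaf (nat_lit 0x134000000020004d0002d)))) (.node 1 (.leaf (nat_lit 0x138000000010004e0004d)) (.node 1 (.leaf (nat_lit 0x13c000000020004f0004e)) (.leaf (nat_lit 0x1b8001b4001b0000e8001a800140040041110004c0004f))))))) (.node 11 (.node 5 (.node 2 (.node 1 (.leaf (nat_lit 0x104000ec001b000140020040d00004d00031)) (.leaf (nat_lit 0x140000000000005000035))) (.node 1 (.leaf (nat_lit 0x144000000010005100050)) (.node 1 (.leaf (nat_lit 0x148000000000005200051)) (.leaf (nat_lit 0x14c000000010005300052))))) (.node 3 (.node 1 (.leaf (nat_lit 0x1d0001cc001c8001c40011c0010c00100001c0001b4001500600c1500004e00053)) (.node 1 (.leaf (nat_lit 0x15000000000000540003e)) (.leaf (nat_lit 0x154000000010005500054)))) (.node 1 (.leaf (nat_lit 0x158000000000005600055)) (.node 1 (.leaf (nat_lit 0x15c000000010005700056)) (.leaf (nat_lit 0x1e4001e0001dc001d800154001600012c001240011400160080041500003400057)))))) (.node 6 (.node 3 (.node 1 (.leaf (nat_lit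 0x1e800118001c400160010080d20005000057)) (.node 1 (.leaf (nat_lit 0x16000000000000580003f)) (.leaf (nat_lit 0x164000000010005900058)))) (.node 1 (.leaf (nat_lit 0x168000000000005a00059)) (.node 1 (.leaf (nat_lit 0x16c000000010005b0005a)) (.leaf (nat_lit 0x170000000000005c0005b))))) (.node 3 (.node 1 (.leaf (nat_lit 0x174000000010005d0005c)) (.node 1 (.leaf (nat_lit 0x20400200001fc001f8001f4001f00015c0014c0013c00178080041500003a0005d)) (.leaf (nat_lit 0x208001400018400178010080d2000460005d)))) (.node 1 (.leaf (nat_lit 0x1d800158001f000178010080d20005800054)) (.node 1 (.leaf (nat_lit 0x178000000020005e00041)) (.leaf (nat_lit 0x17c000000010005f0005e)))))))) (.node 22 (.node 11 (.node 5 (.node 2 (.node 1 (.leaf (nat_lit 0x218002140016800198001900018003008112000480005f)) (.leaf (nat_lit 0x180000000020006000042))) (.node 1 (.leaf (nat_lit 0x2200016c0021400184020040d00005e00060)) (.node 1 (.leaf (nat_lit 0x184000000020006100043))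 (.leaf (nat_lit 0x188000000010006200061))))) (.node 3 (.node 1 (.leaf (nat_lit 0x18c000000020006300062)) (.node 1 (.leaf (nat_lit 0x2300022c00228001700022000190040041110006000063)) (.leaf (nat_lit 0x1a4001740022800190020040d0000610004b)))) (.node 1 (.leaf (nat_lit 0x190000000020006400047)) (.node 1 (.leaf (nat_lit 0x194000000010006500064)) (.leaf (nat_lit 0x2400023c001880020c0020400198030081120005c00065)))))) (.node 5 (.node 2 (.node 1 (.leaf (nat_lit 0x21c0018c0023c00198020040d0000640005f)) (.leaf (nat_lit 0x19800000000000660004f))) (.node 1 (.leaf (nat_lit 0x19c000000010006700066)) (.node 1 (.leaf (nat_lit 0x1a0000000000006800067)) (.leaf (nat_lit 0x1a4000000010006900068))))) (.node 3 (.node 1 (.leaf (nat_lit 0x25800254002500024c001bc001ac001a0002380022c001a80600c1500006200069)) (.node 1 (.leaf (nat_lit 0x1d4001b80024c001a8010080d20006600053)) (.leaf (nat_lit 0x1a8000000020006a00051)))) (.node 1 (.leaf (nat_lit 0x1ac000000010006b0006a))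 (.node 1 (.leaf (nat_lit 0x26800264001c8001ec001e4001b003008112000560006b)) (.leaf (nat_lit 0x1b0000000020006c00052))))))) (.node 11 (.node 5 (.node 2 (.node 1 (.leaf (nat_lit 0x270001cc00264001b4020040d00006a0006c)) (.leaf (nat_lit 0x1b4000000020006d00067))) (.node 1 (.leaf (nat_lit 0x2780025000260001d000270001b8040041110006c0006d)) (.node 1 (.leaf (nat_lit 0x1b8000000020006e00055)) (.leaf (nat_lit 0x1bc000000010006f0006e))))) (.node 3 (.node 1 (.leaf (nat_lit 0x28400280001dc00210001f4001c003008112000590006f)) (.node 1 (.leaf (nat_lit 0x26c001e000280001c0020040d00006e0006b)) (.leaf (nat_lit 0x1c000000002000700005a)))) (.node 1 (.leaf (nat_lit 0x290001f800288001c4020040d00006f00070)) (.node 1 (.leaf (nat_lit 0x1c400000002000710005b)) (.leaf (nat_lit 0x1c8000000010007200071)))))) (.node 6 (.node 3 (.node 1 (.leaf (nat_lit 0x1cc000000020007300072)) (.node 1 (.leaf (nat_lit 0x2a00029c00298001fc00290001d0040041110007000073))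 (.leaf (nat_lit 0x2440020000298001d0020040d00007100065)))) (.node 1 (.leaf (nat_lit 0x1d0000000000007400063)) (.node 1 (.leaf (nat_lit 0x1d4000000010007500074)) (.leaf (nat_lit 0x2b0002ac0023400224002180024800240002a80029c001d8040141500007200075))))) (.node 3 (.node 1 (.leaf (nat_lit 0x25c00230002ac001d8010080d20007400069)) (.node 1 (.leaf (nat_lit 0x1d8000000020007600068)) (.leaf (nat_lit 0x2bc0025400278001dc020040d00006d00076)))) (.node 1 (.leaf (nat_lit 0x1dc000000020007700075)) (.node 1 (.leaf (nat_lit 0x2c4002b0002b800258002bc001e0040041110007600077)) (.leaf (nat_lit 0x2c8002c00027c00274002680028c0028400294002a4001e0040141500007300077))))))))))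
noncomputable def facts : Tree :=
  facts0
noncomputable def names0 : Tree :=
  (.node 60 (.node 30 (.node 15 (.node 7 (.node 3 (.node 1 (.leaf (nat_lit 0x0)) (.node 1 (.leaf (nat_lit 0x1)) (.leaf (nat_lit 0x2)))) (.node 2 (.node 1 (.leaf (nat_lit 0x3)) (.leaf (nat_lit 0x4))) (.node 1 (.leaf (nat_lit 0x5)) (.leaf (nat_lit 0x6))))) (.node 4 (.node 2 (.node 1 (.leaf (nat_lit 0x7)) (.leaf (nat_lit 0x8))) (.node 1 (.leaf (nat_lit 0x9)) (.leaf (nat_lit 0xa)))) (.node 2 (.node 1 (.leaf (nat_lit 0xb)) (.leaf (nat_lit 0xc))) (.node 1 (.leaf (nat_lit 0xd)) (.leaf (nat_lit 0xe)))))) (.node 7 (.node 3 (.node 1 (.leaf (nat_lit 0xf)) (.node 1 (.leaf (nat_lit 0x10)) (.leaf (nat_lit 0x11)))) (.node 2 (.node 1 (.leaf (nat_lit 0x12)) (.leaf (nat_lit 0x13))) (.node 1 (.leaf (nat_lit 0x14)) (.leaf (nat_lit 0x15))))) (.node 4 (.node 2 (.node 1 (.leaf (nat_lit 0x16)) (.leaf (nat_lit 0x17))) (.node 1 (.leaf (nat_lit 0x18)) (.leaf (nat_lit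 0x19)))) (.node 2 (.node 1 (.leaf (nat_lit 0x1a)) (.leaf (nat_lit 0x1b))) (.node 1 (.leaf (nat_lit 0x1c)) (.leaf (nat_lit 0x1d))))))) (.node 15 (.node 7 (.node 3 (.node 1 (.leaf (nat_lit 0x1e)) (.node 1 (.leaf (nat_lit 0x1f)) (.leaf (nat_lit 0x20)))) (.node 2 (.node 1 (.leaf (nat_lit 0x21)) (.leaf (nat_lit 0x22))) (.node 1 (.leaf (nat_lit 0x23)) (.leaf (nat_lit 0x24))))) (.node 4 (.node 2 (.node 1 (.leaf (nat_lit 0x25)) (.leaf (nat_lit 0x26))) (.node 1 (.leaf (nat_lit 0x27)) (.leaf (nat_lit 0x28)))) (.node 2 (.node 1 (.leaf (nat_lit 0x29)) (.leaf (nat_lit 0x2a))) (.node 1 (.leaf (nat_lit 0x2b)) (.leaf (nat_lit 0x2c)))))) (.node 7 (.node 3 (.node 1 (.leaf (nat_lit 0x2d)) (.node 1 (.leaf (nat_lit 0x2e)) (.leaf (nat_lit 0x2f)))) (.node 2 (.node 1 (.leaf (nat_lit 0x30)) (.leaf (nat_lit 0x31))) (.node 1 (.leaf (nat_lit 0x32)) (.leaf (nat_lit 0x33))))) (.node 4 (.node 2 (.node 1 (.leaf (nat_lit 0x34)) (.leaf (nat_lit 0x35)))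 (.node 1 (.leaf (nat_lit 0x36)) (.leaf (nat_lit 0x37)))) (.node 2 (.node 1 (.leaf (nat_lit 0x38)) (.leaf (nat_lit 0x39))) (.node 1 (.leaf (nat_lit 0x3a)) (.leaf (nat_lit 0x3b)))))))) (.node 30 (.node 15 (.node 7 (.node 3 (.node 1 (.leaf (nat_lit 0x3c)) (.node 1 (.leaf (nat_lit 0x3d)) (.leaf (nat_lit 0x3e)))) (.node 2 (.node 1 (.leaf (nat_lit 0x3f)) (.leaf (nat_lit 0x40))) (.node 1 (.leaf (nat_lit 0x41)) (.leaf (nat_lit 0x42))))) (.node 4 (.node 2 (.node 1 (.leaf (nat_lit 0x43)) (.leaf (nat_lit 0x44))) (.node 1 (.leaf (nat_lit 0x45)) (.leaf (nat_lit 0x46)))) (.node 2 (.node 1 (.leaf (nat_lit 0x47)) (.leaf (nat_lit 0x48))) (.node 1 (.leaf (nat_lit 0x49)) (.leaf (nat_lit 0x4a)))))) (.node 7 (.node 3 (.node 1 (.leaf (nat_lit 0x4b)) (.node 1 (.leaf (nat_lit 0x4c)) (.leaf (nat_lit 0x4d)))) (.node 2 (.node 1 (.leaf (nat_lit 0x4e)) (.leaf (nat_lit 0x4f))) (.node 1 (.leaf (nat_lit 0x50)) (.leaf (nat_lit 0x51))))) (.node 4 (.node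 2 (.node 1 (.leaf (nat_lit 0x52)) (.leaf (nat_lit 0x53))) (.node 1 (.leaf (nat_lit 0x54)) (.leaf (nat_lit 0x55)))) (.node 2 (.node 1 (.leaf (nat_lit 0x56)) (.leaf (nat_lit 0x57))) (.node 1 (.leaf (nat_lit 0x58)) (.leaf (nat_lit 0x59))))))) (.node 15 (.node 7 (.node 3 (.node 1 (.leaf (nat_lit 0x5a)) (.node 1 (.leaf (nat_lit 0x5b)) (.leaf (nat_lit 0x5c)))) (.node 2 (.node 1 (.leaf (nat_lit 0x5d)) (.leaf (nat_lit 0x5e))) (.node 1 (.leaf (nat_lit 0x5f)) (.leaf (nat_lit 0x60))))) (.node 4 (.node 2 (.node 1 (.leaf (nat_lit 0x61)) (.leaf (nat_lit 0x62))) (.node 1 (.leaf (nat_lit 0x63)) (.leaf (nat_lit 0x64)))) (.node 2 (.node 1 (.leaf (nat_lit 0x65)) (.leaf (nat_lit 0x66))) (.node 1 (.leaf (nat_lit 0x67)) (.leaf (nat_lit 0x68)))))) (.node 7 (.node 3 (.node 1 (.leaf (nat_lit 0x69)) (.node 1 (.leaf (nat_lit 0x6a)) (.leaf (nat_lit 0x6b)))) (.node 2 (.node 1 (.leaf (nat_lit 0x6c)) (.leaf (nat_lit 0x6d))) (.node 1 (.leaf (nat_lit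 0x6e)) (.leaf (nat_lit 0x6f))))) (.node 4 (.node 2 (.node 1 (.leaf (nat_lit 0x70)) (.leaf (nat_lit 0x71))) (.node 1 (.leaf (nat_lit 0x72)) (.leaf (nat_lit 0x73)))) (.node 2 (.node 1 (.leaf (nat_lit 0x74)) (.leaf (nat_lit 0x75))) (.node 1 (.leaf (nat_lit 0x76)) (.leaf (nat_lit 0x77)))))))))
noncomputable def names : Tree :=
  names0
noncomputable def cells0 : Tree :=
  (.node 180 (.node 90 (.node 45 (.node 22 (.node 11 (.node 5 (.node 2 (.node 1 (.leaf (nat_lit 0x100000)) (.leaf (nat_lit 0x200001))) (.node 1 (.leaf (nat_lit 0x300002)) (.node 1 (.leaf (nat_lit 0x0)) (.leaf (nat_lit 0x800009))))) (.node 3 (.node 1 (.leaf (nat_lit 0x400003)) (.node 1 (.leaf (nat_lit 0xe00010)) (.leaf (nat_lit 0x1)))) (.node 1 (.leaf (nat_lit 0x500005)) (.node 1 (.leaf (nat_lit 0x400004)) (.leaf (nat_lit 0x700008)))))) (.node 5 (.node 2 (.node 1 (.leaf (nat_lit 0x2)) (.leaf (nat_lit 0x300004))) (.node 1 (.leaf (nat_lit 0x1100014)) (.node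 1 (.leaf (nat_lit 0x100003)) (.leaf (nat_lit 0x1200016))))) (.node 3 (.node 1 (.leaf (nat_lit 0x600006)) (.node 1 (.leaf (nat_lit 0x200005)) (.leaf (nat_lit 0x1f00025)))) (.node 1 (.leaf (nat_lit 0x500006)) (.node 1 (.leaf (nat_lit 0x700007)) (.leaf (nat_lit 0x180001d))))))) (.node 11 (.node 5 (.node 2 (.node 1 (.leaf (nat_lit 0x300008)) (.leaf (nat_lit 0x600007))) (.node 1 (.leaf (nat_lit 0x90000a)) (.node 1 (.leaf (nat_lit 0x100009)) (.leaf (nat_lit 0xf00011))))) (.node 3 (.node 1 (.leaf (nat_lit 0x80000a)) (.node 1 (.leaf (nat_lit 0xa0000b)) (.leaf (nat_lit 0x2000027)))) (.node 1 (.leaf (nat_lit 0xb0000c)) (.node 1 (.leaf (nat_lit 0x90000b)) (.leaf (nat_lit 0x2100029)))))) (.node 6 (.node 3 (.node 1 (.leaf (nat_lit 0xa0000c)) (.node 1 (.leaf (nat_lit 0xc0000d)) (.leaf (nat_lit 0x240002d)))) (.node 1 (.leaf (nat_lit 0xd0000e)) (.node 1 (.leaf (nat_lit 0xb0000d)) (.leaf (nat_lit 0x250002f))))) (.node 3 (.node 1 (.leaf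 (nat_lit 0xc0000e)) (.node 1 (.leaf (nat_lit 0xe0000f)) (.leaf (nat_lit 0x2800033)))) (.node 1 (.leaf (nat_lit 0x200010)) (.node 1 (.leaf (nat_lit 0xd0000f)) (.leaf (nat_lit 0x1200015)))))))) (.node 22 (.node 11 (.node 5 (.node 2 (.node 1 (.leaf (nat_lit 0x2000028)) (.leaf (nat_lit 0x1000012))) (.node 1 (.leaf (nat_lit 0x800011)) (.node 1 (.leaf (nat_lit 0x2f0003d)) (.leaf (nat_lit 0xf00012))))) (.node 3 (.node 1 (.leaf (nat_lit 0x1100013)) (.node 1 (.leaf (nat_lit 0x1300017)) (.leaf (nat_lit 0x400014)))) (.node 1 (.leaf (nat_lit 0x1000013)) (.node 1 (.leaf (nat_lit 0x500016)) (.leaf (nat_lit 0x190001e)))))) (.node 5 (.node 2 (.node 1 (.leaf (nat_lit 0xe00015)) (.leaf (nat_lit 0x1100017))) (.node 1 (.leaf (nat_lit 0x1400018)) (.node 1 (.leaf (nat_lit 0x2f0003e)) (.leaf (nat_lit 0x1500019))))) (.node 3 (.node 1 (.leaf (nat_lit 0x1300018)) (.node 1 (.leaf (nat_lit 0x300003f)) (.leaf (nat_lit 0x1400019)))) (.node 1 (.leaf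 (nat_lit 0x160001a)) (.node 1 (.leaf (nat_lit 0x3200042)) (.leaf (nat_lit 0x170001b))))))) (.node 11 (.node 5 (.node 2 (.node 1 (.leaf (nat_lit 0x150001a)) (.leaf (nat_lit 0x3300044))) (.node 1 (.leaf (nat_lit 0x160001b)) (.node 1 (.leaf (nat_lit 0x180001c)) (.leaf (nat_lit 0x3600048))))) (.node 3 (.node 1 (.leaf (nat_lit 0x70001d)) (.node 1 (.leaf (nat_lit 0x170001c)) (.leaf (nat_lit 0x1f00026)))) (.node 1 (.leaf (nat_lit 0x1a0001f)) (.node 1 (.leaf (nat_lit 0x120001e)) (.leaf (nat_lit 0x2900035)))))) (.node 6 (.node 3 (.node 1 (.leaf (nat_lit 0x190001f)) (.node 1 (.leaf (nat_lit 0x1b00020)) (.leaf (nat_lit 0x380004c)))) (.node 1 (.leaf (nat_lit 0x1c00021)) (.node 1 (.leaf (nat_lit 0x1a00020)) (.leaf (nat_lit 0x390004e))))) (.node 3 (.node 1 (.leaf (nat_lit 0x1b00021)) (.node 1 (.leaf (nat_lit 0x1d00022)) (.leaf (nat_lit 0x3c00052)))) (.node 1 (.leaf (nat_lit 0x1e00023)) (.node 1 (.leaf (nat_lit 0x1c00022)) (.leaf (nat_lit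 0x3d00054))))))))) (.node 45 (.node 22 (.node 11 (.node 5 (.node 2 (.node 1 (.leaf (nat_lit 0x1d00023)) (.leaf (nat_lit 0x1f00024))) (.node 1 (.leaf (nat_lit 0x370004a)) (.node 1 (.leaf (nat_lit 0x600025)) (.leaf (nat_lit 0x1e00024))))) (.node 3 (.node 1 (.leaf (nat_lit 0x1800026)) (.node 1 (.leaf (nat_lit 0xf00028)) (.leaf (nat_lit 0x230002c)))) (.node 1 (.leaf (nat_lit 0x900027)) (.node 1 (.leaf (nat_lit 0x240002e)) (.leaf (nat_lit 0x220002a)))))) (.node 5 (.node 2 (.node 1 (.leaf (nat_lit 0xa00029)) (.leaf (nat_lit 0x450005f))) (.node 1 (.leaf (nat_lit 0x210002a)) (.node 1 (.leaf (nat_lit 0x230002b)) (.leaf (nat_lit 0x2a00037))))) (.node 3 (.node 1 (.leaf (nat_lit 0x200002c)) (.node 1 (.leaf (nat_lit 0x220002b)) (.leaf (nat_lit 0x210002e)))) (.node 1 (.leaf (nat_lit 0x2700032)) (.node 1 (.leaf (nat_lit 0xb0002d)) (.leaf (nat_lit 0x2800034))))))) (.node 11 (.node 5 (.node 2 (.node 1 (.leaf (nat_lit 0x2600030)) (.leaf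 (nat_lit 0xc0002f))) (.node 1 (.leaf (nat_lit 0x4900065)) (.node 1 (.leaf (nat_lit 0x2500030)) (.leaf (nat_lit 0x2700031))))) (.node 3 (.node 1 (.leaf (nat_lit 0x4000059)) (.node 1 (.leaf (nat_lit 0x2400032)) (.leaf (nat_lit 0x2600031)))) (.node 1 (.leaf (nat_lit 0x2500034)) (.node 1 (.leaf (nat_lit 0x2900036)) (.leaf (nat_lit 0xd00033)))))) (.node 6 (.node 3 (.node 1 (.leaf (nat_lit 0x380004d)) (.node 1 (.leaf (nat_lit 0x2800036)) (.leaf (nat_lit 0x1900035)))) (.node 1 (.leaf (nat_lit 0x2300037)) (.node 1 (.leaf (nat_lit 0x2b00038)) (.leaf (nat_lit 0x4500060))))) (.node 3 (.node 1 (.leaf (nat_lit 0x2c00039)) (.node 1 (.leaf (nat_lit 0x2a00038)) (.leaf (nat_lit 0x4a00067)))) (.node 1 (.leaf (nat_lit 0x2b00039)) (.node 1 (.leaf (nat_lit 0x2d0003a)) (.leaf (nat_lit 0x4c0006a)))))))) (.node 22 (.node 11 (.node 5 (.node 2 (.node 1 (.leaf (nat_lit 0x2e0003b)) (.leaf (nat_lit 0x2c0003a))) (.node 1 (.leaf (nat_lit 0x4d0006c))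 (.node 1 (.leaf (nat_lit 0x2d0003b)) (.leaf (nat_lit 0x2f0003c))))) (.node 3 (.node 1 (.leaf (nat_lit 0x3100041)) (.node 1 (.leaf (nat_lit 0x100003d)) (.leaf (nat_lit 0x2e0003c)))) (.node 1 (.leaf (nat_lit 0x130003e)) (.node 1 (.leaf (nat_lit 0x3200043)) (.leaf (nat_lit 0x3100040)))))) (.node 5 (.node 2 (.node 1 (.leaf (nat_lit 0x140003f)) (.leaf (nat_lit 0x4d00070))) (.node 1 (.leaf (nat_lit 0x3000040)) (.node 1 (.leaf (nat_lit 0x2e00041)) (.leaf (nat_lit 0x3000043))))) (.node 3 (.node 1 (.leaf (nat_lit 0x3500047)) (.node 1 (.leaf (nat_lit 0x1500042)) (.leaf (nat_lit 0x3600049)))) (.node 1 (.leaf (nat_lit 0x3400045)) (.node 1 (.leaf (nat_lit 0x1600044)) (.leaf (nat_lit 0x570007a))))))) (.node 11 (.node 5 (.node 2 (.node 1 (.leaf (nat_lit 0x3300045)) (.leaf (nat_lit 0x3500046))) (.node 1 (.leaf (nat_lit 0x5000071)) (.node 1 (.leaf (nat_lit 0x3200047)) (.leaf (nat_lit 0x3400046))))) (.node 3 (.node 1 (.leaf (nat_lit 0x3300049))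 (.node 1 (.leaf (nat_lit 0x370004b)) (.leaf (nat_lit 0x1700048)))) (.node 1 (.leaf (nat_lit 0x3d00058)) (.node 1 (.leaf (nat_lit 0x360004b)) (.leaf (nat_lit 0x1e0004a)))))) (.node 6 (.node 3 (.node 1 (.leaf (nat_lit 0x290004d)) (.node 1 (.leaf (nat_lit 0x3b00051)) (.leaf (nat_lit 0x1a0004c)))) (.node 1 (.leaf (nat_lit 0x3c00053)) (.node 1 (.leaf (nat_lit 0x3a0004f)) (.leaf (nat_lit 0x1b0004e))))) (.node 3 (.node 1 (.leaf (nat_lit 0x5d00082)) (.node 1 (.leaf (nat_lit 0x390004f)) (.leaf (nat_lit 0x3b00050)))) (.node 1 (.leaf (nat_lit 0x4600061)) (.node 1 (.leaf (nat_lit 0x3800051)) (.leaf (nat_lit 0x3a00050)))))))))) (.node 90 (.node 45 (.node 22 (.node 11 (.node 5 (.node 2 (.node 1 (.leaf (nat_lit 0x3900053)) (.leaf (nat_lit 0x3f00057))) (.node 1 (.leaf (nat_lit 0x1c00052)) (.node 1 (.leaf (nat_lit 0x3700058)) (.leaf (nat_lit 0x3e00055))))) (.node 3 (.node 1 (.leaf (nat_lit 0x1d00054)) (.node 1 (.leaf (nat_lit 0x5400076))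 (.leaf (nat_lit 0x3d00055)))) (.node 1 (.leaf (nat_lit 0x3f00056)) (.node 1 (.leaf (nat_lit 0x580007c)) (.leaf (nat_lit 0x3c00057)))))) (.node 5 (.node 2 (.node 1 (.leaf (nat_lit 0x3e00056)) (.leaf (nat_lit 0x2700059))) (.node 1 (.leaf (nat_lit 0x410005a)) (.node 1 (.leaf (nat_lit 0x4900066)) (.leaf (nat_lit 0x420005b))))) (.node 3 (.node 1 (.leaf (nat_lit 0x400005a)) (.node 1 (.leaf (nat_lit 0x5e00085)) (.leaf (nat_lit 0x410005b)))) (.node 1 (.leaf (nat_lit 0x430005c)) (.node 1 (.leaf (nat_lit 0x6000088)) (.leaf (nat_lit 0x440005d))))))) (.node 11 (.node 5 (.node 2 (.node 1 (.leaf (nat_lit 0x420005c)) (.leaf (nat_lit 0x610008a))) (.node 1 (.leaf (nat_lit 0x430005d)) (.node 1 (.leaf (nat_lit 0x450005e)) (.leaf (nat_lit 0x4b00069))))) (.node 3 (.node 1 (.leaf (nat_lit 0x220005f)) (.node 1 (.leaf (nat_lit 0x440005e)) (.leaf (nat_lit 0x2a00060)))) (.node 1 (.leaf (nat_lit 0x3b00061)) (.node 1 (.leaf (nat_lit 0x4700062))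 (.leaf (nat_lit 0x5d00083)))))) (.node 6 (.node 3 (.node 1 (.leaf (nat_lit 0x4800063)) (.node 1 (.leaf (nat_lit 0x4600062)) (.leaf (nat_lit 0x640008f)))) (.node 1 (.leaf (nat_lit 0x4700063)) (.node 1 (.leaf (nat_lit 0x4900064)) (.leaf (nat_lit 0x5f00087))))) (.node 3 (.node 1 (.leaf (nat_lit 0x2600065)) (.node 1 (.leaf (nat_lit 0x4800064)) (.leaf (nat_lit 0x4000066)))) (.node 1 (.leaf (nat_lit 0x4c0006b)) (.node 1 (.leaf (nat_lit 0x4b00068)) (.leaf (nat_lit 0x2b00067)))))))) (.node 22 (.node 11 (.node 5 (.node 2 (.node 1 (.leaf (nat_lit 0x610008e)) (.leaf (nat_lit 0x4a00068))) (.node 1 (.leaf (nat_lit 0x4400069)) (.node 1 (.leaf (nat_lit 0x4a0006b)) (.leaf (nat_lit 0x4f0006f))))) (.node 3 (.node 1 (.leaf (nat_lit 0x2c0006a)) (.node 1 (.leaf (nat_lit 0x3100070)) (.leaf (nat_lit 0x4e0006d)))) (.node 1 (.leaf (nat_lit 0x2d0006c)) (.node 1 (.leaf (nat_lit 0x5300075)) (.leaf (nat_lit 0x4d0006d)))))) (.node 5 (.node 2 (.node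 1 (.leaf (nat_lit 0x4f0006e)) (.leaf (nat_lit 0x6600093))) (.node 1 (.leaf (nat_lit 0x4c0006f)) (.node 1 (.leaf (nat_lit 0x4e0006e)) (.leaf (nat_lit 0x3500071))))) (.node 3 (.node 1 (.leaf (nat_lit 0x5100072)) (.node 1 (.leaf (nat_lit 0x570007b)) (.leaf (nat_lit 0x5200073)))) (.node 1 (.leaf (nat_lit 0x5000072)) (.node 1 (.leaf (nat_lit 0x6a00099)) (.leaf (nat_lit 0x5100073))))))) (.node 11 (.node 5 (.node 2 (.node 1 (.leaf (nat_lit 0x5300074)) (.leaf (nat_lit 0x6c0009c))) (.node 1 (.leaf (nat_lit 0x4e00075)) (.node 1 (.leaf (nat_lit 0x5200074)) (.leaf (nat_lit 0x6600098))))) (.node 3 (.node 1 (.leaf (nat_lit 0x3e00076)) (.node 1 (.leaf (nat_lit 0x5500077)) (.leaf (nat_lit 0x5800084)))) (.node 1 (.leaf (nat_lit 0x5600078)) (.node 1 (.leaf (nat_lit 0x5400077)) (.leaf (nat_lit 0x6e000a0)))))) (.node 6 (.node 3 (.node 1 (.leaf (nat_lit 0x5500078)) (.node 1 (.leaf (nat_lit 0x5700079)) (.leaf (nat_lit 0x6b0009b)))) (.node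 1 (.leaf (nat_lit 0x340007a)) (.node 1 (.leaf (nat_lit 0x5600079)) (.leaf (nat_lit 0x500007b))))) (.node 3 (.node 1 (.leaf (nat_lit 0x3f0007c)) (.node 1 (.leaf (nat_lit 0x590007d)) (.leaf (nat_lit 0x5400084)))) (.node 1 (.leaf (nat_lit 0x5a0007e)) (.node 1 (.leaf (nat_lit 0x580007d)) (.leaf (nat_lit 0x6f000a2))))))))) (.node 45 (.node 22 (.node 11 (.node 5 (.node 2 (.node 1 (.leaf (nat_lit 0x590007e)) (.leaf (nat_lit 0x5b0007f))) (.node 1 (.leaf (nat_lit 0x70000a4)) (.node 1 (.leaf (nat_lit 0x5c00080)) (.leaf (nat_lit 0x5a0007f))))) (.node 3 (.node 1 (.leaf (nat_lit 0x71000a6)) (.node 1 (.leaf (nat_lit 0x5b00080)) (.leaf (nat_lit 0x5d00081)))) (.node 1 (.leaf (nat_lit 0x6500091)) (.node 1 (.leaf (nat_lit 0x3a00082)) (.leaf (nat_lit 0x5c00081)))))) (.node 5 (.node 2 (.node 1 (.leaf (nat_lit 0x4600083)) (.leaf (nat_lit 0x6000089))) (.node 1 (.leaf (nat_lit 0x5f00086)) (.node 1 (.leaf (nat_lit 0x4100085)) (.leaf (nat_lit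 0x6400092))))) (.node 3 (.node 1 (.leaf (nat_lit 0x5e00086)) (.node 1 (.leaf (nat_lit 0x4800087)) (.leaf (nat_lit 0x5e00089)))) (.node 1 (.leaf (nat_lit 0x630008d)) (.node 1 (.leaf (nat_lit 0x4200088)) (.leaf (nat_lit 0x4b0008e))))))) (.node 11 (.node 5 (.node 2 (.node 1 (.leaf (nat_lit 0x620008b)) (.leaf (nat_lit 0x430008a))) (.node 1 (.leaf (nat_lit 0x6900097)) (.node 1 (.leaf (nat_lit 0x610008b)) (.leaf (nat_lit 0x630008c))))) (.node 3 (.node 1 (.leaf (nat_lit 0x74000ab)) (.node 1 (.leaf (nat_lit 0x600008d)) (.leaf (nat_lit 0x620008c)))) (.node 1 (.leaf (nat_lit 0x5f00092)) (.node 1 (.leaf (nat_lit 0x6500090)) (.leaf (nat_lit 0x470008f)))))) (.node 6 (.node 3 (.node 1 (.leaf (nat_lit 0x71000aa)) (.node 1 (.leaf (nat_lit 0x6400090)) (.leaf (nat_lit 0x5c00091)))) (.node 1 (.leaf (nat_lit 0x4f00093)) (.node 1 (.leaf (nat_lit 0x6700094)) (.leaf (nat_lit 0x5300098))))) (.node 3 (.node 1 (.leaf (nat_lit 0x6800095)) (.node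 1 (.leaf (nat_lit 0x6600094)) (.leaf (nat_lit 0x6d0009e)))) (.node 1 (.leaf (nat_lit 0x6700095)) (.node 1 (.leaf (nat_lit 0x6900096)) (.leaf (nat_lit 0x76000af)))))))) (.node 22 (.node 11 (.node 5 (.node 2 (.node 1 (.leaf (nat_lit 0x6200097)) (.leaf (nat_lit 0x6800096))) (.node 1 (.leaf (nat_lit 0x74000ae)) (.node 1 (.leaf (nat_lit 0x6c0009d)) (.leaf (nat_lit 0x6b0009a))))) (.node 3 (.node 1 (.leaf (nat_lit 0x5100099)) (.node 1 (.leaf (nat_lit 0x6e000a3)) (.leaf (nat_lit 0x6a0009a)))) (.node 1 (.leaf (nat_lit 0x560009b)) (.node 1 (.leaf (nat_lit 0x6a0009d)) (.leaf (nat_lit 0x6d0009f)))))) (.node 5 (.node 2 (.node 1 (.leaf (nat_lit 0x520009c)) (.leaf (nat_lit 0x76000b0))) (.node 1 (.leaf (nat_lit 0x6c0009f)) (.node 1 (.leaf (nat_lit 0x670009e)) (.leaf (nat_lit 0x6b000a3))))) (.node 3 (.node 1 (.leaf (nat_lit 0x6f000a1)) (.node 1 (.leaf (nat_lit 0x55000a0)) (.leaf (nat_lit 0x70000a5)))) (.node 1 (.leaf (nat_lit 0x6e000a1))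 (.node 1 (.leaf (nat_lit 0x59000a2)) (.leaf (nat_lit 0x6f000a5))))))) (.node 11 (.node 5 (.node 2 (.node 1 (.leaf (nat_lit 0x73000a9)) (.leaf (nat_lit 0x5a000a4))) (.node 1 (.leaf (nat_lit 0x65000aa)) (.node 1 (.leaf (nat_lit 0x72000a7)) (.leaf (nat_lit 0x5b000a6))))) (.node 3 (.node 1 (.leaf (nat_lit 0x75000ad)) (.node 1 (.leaf (nat_lit 0x71000a7)) (.leaf (nat_lit 0x73000a8)))) (.node 1 (.leaf (nat_lit 0x77000b3)) (.node 1 (.leaf (nat_lit 0x70000a9)) (.leaf (nat_lit 0x72000a8)))))) (.node 6 (.node 3 (.node 1 (.leaf (nat_lit 0x63000ab)) (.node 1 (.leaf (nat_lit 0x75000ac)) (.leaf (nat_lit 0x69000ae)))) (.node 1 (.leaf (nat_lit 0x72000ad)) (.node 1 (.leaf (nat_lit 0x74000ac)) (.leaf (nat_lit 0x77000b1))))) (.node 3 (.node 1 (.leaf (nat_lit 0x6d000b0)) (.node 1 (.leaf (nat_lit 0x77000b2)) (.leaf (nat_lit 0x68000af)))) (.node 1 (.leaf (nat_lit 0x73000b3)) (.node 1 (.leaf (nat_lit 0x76000b2)) (.leaf (nat_lit 0x75000b1)))))))))))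
noncomputable def cells : Tree :=
  cells0
def words : List (List ℕ) := [[0, 0], [1, 1], [2, 2], [0, 2, 0, 2], [1, 2, 1, 2, 1, 2], [0, 1, 0, 1, 0, 1, 0, 1, 0, 1], []]

def subs : List (List ℕ) := []

noncomputable def table : PTable :=
  ⟨⟨3, 12816, words, subs, facts, 180⟩, 120, names, cells⟩

end Cfsg.Agent.J1Unique.Small
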