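import Cfsg.Agent.Lib.J1Unique.SmallData

/-!
# Coset certificate check, a part
-/

set_option autoImplicit false
set_option linter.all false
set_option maxRecDepth 100000

namespace Cfsg.Agent.J1Unique.Small

open Cfsg.Agent.CosetCert (Tree)

theorem steps0_0 : allRange (stepOK table.C) 0 180 = true := by decide +kernel

theorem steps0 : ∀ i, 0 ≤ i → i < 180 → stepOK table.C i = true :=
  fun i h h' => (allRange_spec _ _ steps0_0) i h h'

end Cfsg.Agent.J1Unique.Small
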